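import Cfsg.Prelude.Def_LocalStructure
import Cfsg.Agent.Subnormal.Basic
import Cfsg.Agent.PReduced.Basic
import Cfsg.Agent.CoprimeAction.Basic

/-!
Weakly closed p-subgroups and large subgroups.
-/

set_option autoImplicit false

namespace CfsgLib.PReduced

open Subgroup

variable {G : Type*} [Group G] [Finite G] {p : ℕ} [Fact p.Prime]

theorem le_normalizer_sup_self_left {A B : Subgroup G} (h : B ≤ normalizer (A : Set G)) :
    A ⊔ B ≤ normalizer (A : Set G) := sup_le le_normalizer h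

/-- A weakly closed subgroup is the only conjugate of itself in every p-subgroup containing it. -/
theorem conj_eq_of_le {Q : Subgroup G} (h : Cfsg.IsWeaklyClosedSubgroup p Q) {R : Subgroup G} (hR : IsPGroup p R)
    (hQR : Q ≤ R) {g : G} (hg : Q.map (MulAut.conj g).toMonoidHom ≤ R) :
    Q.map (MulAut.conj g).toMonoidHom = Q := by
  obtain ⟨T, hQT, hu⟩ := h
  obtain ⟨T', hT'⟩ := hR.exists_le_sylow
  obtain ⟨x, rfl⟩ := MulAction.exists_smul_eq G T T'
  rw [Sylow.coe_subgroup_smul] at hT'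
  have hT'' : ∀ A : Subgroup G, A ≤ R → A.map (MulAut.conj x⁻¹).toMonoidHom ≤ (T : Subgroup G) := fun A hA =>
    CfsgLib.Subnormal.le_conj_iff.mp (hA.trans hT')
  have h1 := hu x⁻¹ (hT'' Q hQR)
  have h2 := hu (x⁻¹ * g) (by rw [← CfsgLib.Subnormal.conj_conj]; exact hT'' _ hg)
  rw [← CfsgLib.Subnormal.conj_conj] at h2
  have h3 := congrArg (Subgroup.map (MulAut.conj x).toMonoidHom) (h2.trans h1.symm)
  simp only [CfsgLib.Subnormal.conj_conj, mul_assoc, mul_inv_cancel_left, mul_inv_cancel,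
    CfsgLib.Subnormal.conj_one] at h3
  exact h3

/-- The normalizer of a p-subgroup containing a weakly closed `Q` normalizes `Q`. -/
theorem normalizer_le_of_weaklyClosed {Q : Subgroup G} (h : Cfsg.IsWeaklyClosedSubgroup p Q) {R : Subgroup G}
    (hR : IsPGroup p R) (hQR : Q ≤ R) : normalizer (R : Set G) ≤ normalizer (Q : Set G) := fun g hg =>
  CfsgLib.Subnormal.conj_eq_self_iff.mp (conj_eq_of_le h hR hQR
    ((map_mono hQR).trans (CfsgLib.Subnormal.conj_eq_self_iff.mpr hg).le))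

/-- Criterion by normalizers. -/
theorem isWeaklyClosedSubgroup_of_normalizer {Q : Subgroup G} (hQ : IsPGroup p Q)
    (h : ∀ R : Subgroup G, IsPGroup p R → Q ≤ R → normalizer (R : Set G) ≤ normalizer (Q : Set G)) :
    Cfsg.IsWeaklyClosedSubgroup p Q := by
  obtain ⟨T, hT⟩ := hQ.exists_le_sylow
  refine ⟨T, hT, fun g hg => ?_⟩
  set N := normalizer (Q : Set G) with hN
  have hTN : (T : Subgroup G) ≤ N := le_normalizer.trans (h _ T.isPGroup' hT)
  have hT'N : ((g⁻¹ • T : Sylow p G) : Subgroup G) ≤ N := by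
    refine le_normalizer.trans (h _ (g⁻¹ • T).isPGroup' ?_)
    rw [Sylow.coe_subgroup_smul]
    exact CfsgLib.Subnormal.le_conj_iff.mpr (by rwa [inv_inv])
  obtain ⟨n, hn⟩ := MulAction.exists_smul_eq N (T.subtype hTN) ((g⁻¹ • T).subtype hT'N)
  have hn' : (n : G) • T = g⁻¹ • T := by
    refine Sylow.ext (eq_of_le_of_card_ge ?_ (by rw [Sylow.card_eq_multiplicity, Sylow.card_eq_multiplicity]))
    rw [Sylow.coe_subgroup_smul]
    rintro _ ⟨r, hr, rfl⟩
    have h1 : n * (⟨r, hTN hr⟩ : N) * n⁻¹ ∈ (((g⁻¹ • T).subtype hT'N : Sylow p N) : Subgroup N) := by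
      rw [← hn, Sylow.coe_subgroup_smul]
      exact Subgroup.mem_map.2 ⟨_, hr, rfl⟩
    exact h1
  have hgn : g * n ∈ normalizer ((T : Subgroup G) : Set G) :=
    Sylow.smul_eq_iff_mem_normalizer.mp (by rw [mul_smul, hn', smul_inv_smul])
  refine CfsgLib.Subnormal.conj_eq_self_iff.mpr ?_
  simpa using mul_mem (h _ T.isPGroup' hT hgn) (inv_mem n.2)

/-- Criterion by mutually normalizing conjugates. -/
theorem isWeaklyClosedSubgroup_of_commutator {Q : Subgroup G} (hQ : IsPGroup p Q)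
    (h : ∀ g : G, ⁅Q, Q.map (MulAut.conj g).toMonoidHom⁆ ≤ Q ⊓ Q.map (MulAut.conj g).toMonoidHom →
      Q.map (MulAut.conj g).toMonoidHom = Q) : Cfsg.IsWeaklyClosedSubgroup p Q := by
  have hc : ∀ A B : Subgroup G, A ≤ normalizer (B : Set G) → B ≤ normalizer (A : Set G) → ⁅A, B⁆ ≤ A ⊓ B := by
    intro A B h1 h2
    rw [commutator_le]
    intro a ha b hb
    rw [commutatorElement_def]
    refine mem_inf.mpr ⟨?_, mul_mem ((mem_normalizer_iff.mp (h1 ha) b).mp hb) (inv_mem hb)⟩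
    rw [mul_assoc a b, mul_assoc a]
    exact mul_mem ha ((mem_normalizer_iff.mp (h2 hb) _).mp (inv_mem ha))
  have hR : ∀ R : Subgroup G, IsPGroup p R → Q ≤ R → R ≤ normalizer (Q : Set G) := by
    intro R hRp hQR
    set D := R ⊓ normalizer (Q : Set G) with hD
    by_contra hle
    haveI : Group.IsNilpotent R := hRp.isNilpotent
    have hlt : D.subgroupOf R < ⊤ :=
      lt_top_iff_ne_top.mpr fun e => hle ((subgroupOf_eq_top.mp e).trans inf_le_right)
    refine (Group.normalizerCondition_of_isNilpotent _ hlt).not_ge fun x hx => ?_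
    have hxD : (x : G) ∈ normalizer (D : Set G) :=
      CfsgLib.Subnormal.normalizer_subgroupOf_map_le inf_le_left ⟨x, hx, rfl⟩
    refine mem_inf.mpr ⟨x.2, CfsgLib.Subnormal.conj_eq_self_iff.mp (h x (hc _ _ ?_ ?_))⟩
    · refine (le_inf hQR le_normalizer).trans ?_
      show D ≤ _
      rw [← CfsgLib.Subnormal.conj_eq_self_iff.mpr hxD]
      exact (map_mono inf_le_right).trans (le_normalizer_map _)
    · exact ((map_mono (le_inf hQR le_normalizer)).trans (CfsgLib.Subnormal.conj_eq_self_iff.mpr hxD).le).trans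
        inf_le_right
  refine isWeaklyClosedSubgroup_of_normalizer hQ fun R hRp hQR g hg =>
    CfsgLib.Subnormal.conj_eq_self_iff.mp (h g (hc _ _ ?_ ?_))
  · refine hQR.trans ?_
    rw [← CfsgLib.Subnormal.conj_eq_self_iff.mpr hg]
    exact (map_mono (hR R hRp hQR)).trans (le_normalizer_map _)
  · exact ((map_mono hQR).trans (CfsgLib.Subnormal.conj_eq_self_iff.mpr hg).le).trans (hR R hRp hQR)

/-- Conjugates of a weakly closed `Q` inside `K ≥ Q` are conjugate to it in `K`. -/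
theorem exists_conj_eq_of_le {Q : Subgroup G} (hQ : IsPGroup p Q) (h : Cfsg.IsWeaklyClosedSubgroup p Q)
    {K : Subgroup G} (hQK : Q ≤ K) {g : G} (hg : Q.map (MulAut.conj g).toMonoidHom ≤ K) :
    ∃ k ∈ K, Q.map (MulAut.conj g).toMonoidHom = Q.map (MulAut.conj k).toMonoidHom := by
  set Q' := Q.map (MulAut.conj g).toMonoidHom with hQ'
  obtain ⟨A, hA⟩ := (hQ.comap_of_injective K.subtype K.subtype_injective).exists_le_sylow
  obtain ⟨B, hB⟩ := ((hQ.map (MulAut.conj g).toMonoidHom).comap_of_injective K.subtype K.subtype_injective).exists_le_sylow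
  obtain ⟨k, hk⟩ := MulAction.exists_smul_eq K B A
  have h1 : Q'.map (MulAut.conj (k : G)).toMonoidHom = Q := by
    rw [hQ', CfsgLib.Subnormal.conj_conj]
    refine conj_eq_of_le h (A.isPGroup'.map K.subtype) (fun x hx => ⟨⟨x, hQK hx⟩, hA hx, rfl⟩) ?_
    rw [← CfsgLib.Subnormal.conj_conj]
    rintro _ ⟨x, hx, rfl⟩
    refine ⟨k * ⟨x, hg hx⟩ * k⁻¹, ?_, rfl⟩
    rw [SetLike.mem_coe, ← hk, Sylow.coe_subgroup_smul]
    exact Subgroup.mem_map.2 ⟨_, hB hx, rfl⟩
  refine ⟨(k : G)⁻¹, inv_mem k.2, ?_⟩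
  rw [← h1, CfsgLib.Subnormal.conj_conj, inv_mul_cancel, CfsgLib.Subnormal.conj_one]

/-- A subgroup normalized by `Q` is the product of the normalizer of `Q` in it and `[M, Q]`. -/
theorem exists_normalizer_mul_commutator {Q : Subgroup G} (hQ : IsPGroup p Q) (h : Cfsg.IsWeaklyClosedSubgroup p Q)
    {M : Subgroup G} (hQM : Q ≤ normalizer (M : Set G)) {m : G} (hm : m ∈ M) :
    ∃ a ∈ M ⊓ normalizer (Q : Set G), ∃ b ∈ ⁅M, Q⁆, m = a * b := by
  set D := ⁅M, Q⁆ with hD
  have hMD : M ≤ normalizer (D : Set G) := CfsgLib.CoprimeAction.self_le_normalizer_commutator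
  have hQD : Q ≤ normalizer (D : Set G) := CfsgLib.CoprimeAction.le_normalizer_commutator hQM
  have hDM : D ≤ M := CfsgLib.CoprimeAction.commutator_le_of_normalizer hQM
  have hQm : Q.map (MulAut.conj m⁻¹).toMonoidHom ≤ D ⊔ Q := by
    rintro _ ⟨q, hq, rfl⟩
    have h1 := mul_mem (mem_sup_left (T := Q) (commutator_mem_commutator (inv_mem hm) hq))
      (mem_sup_right (S := D) hq)
    simpa [commutatorElement_def, mul_assoc] using h1
  obtain ⟨k, hk, hkQ⟩ := exists_conj_eq_of_le hQ h le_sup_right hQm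
  rw [← SetLike.mem_coe, coe_mul_of_right_le_normalizer_left _ _ hQD] at hk
  obtain ⟨d, hd, q, hq, rfl⟩ := hk
  rw [← CfsgLib.Subnormal.conj_conj _ d q, CfsgLib.Subnormal.conj_eq_self_iff.mpr (le_normalizer hq)] at hkQ
  have hmd : m * d ∈ normalizer (Q : Set G) := by
    refine CfsgLib.Subnormal.conj_eq_self_iff.mp ?_
    rw [← CfsgLib.Subnormal.conj_conj, ← hkQ, CfsgLib.Subnormal.conj_conj, mul_inv_cancel, CfsgLib.Subnormal.conj_one]
  exact ⟨m * d, mem_inf.mpr ⟨mul_mem hm (hDM hd), hmd⟩, d⁻¹, inv_mem hd, (mul_inv_cancel_right m d).symm⟩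

/-- All conjugates under `G` lie in a subnormal subgroup containing a weakly closed `Q`. -/
theorem conj_le_of_isSubnormal {Q : Subgroup G} (hQ : IsPGroup p Q) (h : Cfsg.IsWeaklyClosedSubgroup p Q)
    {S : Subgroup G} (hS : S.IsSubnormal) : Q ≤ S → ∀ g : G, Q.map (MulAut.conj g).toMonoidHom ≤ S := by
  induction hS with
  | top => exact fun _ _ => le_top
  | step A K hAK _ hN ih =>
    intro hQA g
    obtain ⟨k, hk, hke⟩ := exists_conj_eq_of_le hQ h (hQA.trans hAK) (ih (hQA.trans hAK) g)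
    rw [hke]
    refine (map_mono hQA).trans (le_of_eq ?_)
    exact CfsgLib.Subnormal.conj_eq_self_iff.mpr ((normal_subgroupOf_iff_le_normalizer hAK).mp hN hk)

/-- The normalizer of a p-group containing a large subgroup `Q` normalizes `Q`. -/
theorem normalizer_le_of_large {Q : Subgroup G} (hQ1 : Q ≠ ⊥) (hL : Cfsg.IsLarge Q) {R : Subgroup G}
    (hR : IsPGroup p R) (hQR : Q ≤ R) : normalizer (R : Set G) ≤ normalizer (Q : Set G) := by
  haveI : Nontrivial R := (nontrivial_iff_ne_bot R).mpr fun e => hQ1 (le_bot_iff.mp (e ▸ hQR))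
  haveI := hR.center_nontrivial
  set Z := (center R).map R.subtype with hZ
  have hZne : Z ≠ ⊥ := fun e => ((nontrivial_iff_ne_bot _).mp inferInstance)
    ((map_eq_bot_iff_of_injective _ R.subtype_injective).mp e)
  have hZQ : Z ≤ centralizer (Q : Set G) := by
    rintro _ ⟨z, hz, rfl⟩
    exact mem_centralizer_iff.mpr fun q hq => congrArg Subtype.val (mem_center_iff.mp hz ⟨q, hQR hq⟩)
  refine le_trans ?_ (hL.2 Z hZQ hZne)
  intro g hg
  rw [mem_normalizer_iff]
  have key : ∀ g ∈ normalizer (R : Set G), ∀ x ∈ Z, g * x * g⁻¹ ∈ Z := by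
    rintro g hg _ ⟨z, hz, rfl⟩
    refine ⟨⟨g * (z : G) * g⁻¹, (mem_normalizer_iff.mp hg _).mp z.2⟩, mem_center_iff.mpr fun r => Subtype.ext ?_, rfl⟩
    have hr : g⁻¹ * (r : G) * g ∈ R := by simpa using (mem_normalizer_iff.mp (inv_mem hg) _).mp r.2
    have h1 : g⁻¹ * (r : G) * g * (z : G) = (z : G) * (g⁻¹ * (r : G) * g) :=
      congrArg Subtype.val (mem_center_iff.mp hz ⟨_, hr⟩)
    show (r : G) * (g * (z : G) * g⁻¹) = g * (z : G) * g⁻¹ * (r : G)
    calc (r : G) * (g * (z : G) * g⁻¹) = g * (g⁻¹ * (r : G) * g * (z : G)) * g⁻¹ := by group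
      _ = g * ((z : G) * (g⁻¹ * (r : G) * g)) * g⁻¹ := by rw [h1]
      _ = _ := by group
  exact fun x => ⟨key g hg x, fun hx => by simpa [mul_assoc] using key g⁻¹ (inv_mem hg) _ hx⟩

/-- Large p-subgroups are weakly closed. -/
theorem isWeaklyClosedSubgroup_of_large {Q : Subgroup G} (hQ : IsPGroup p Q) (hQ1 : Q ≠ ⊥) (hL : Cfsg.IsLarge Q) :
    Cfsg.IsWeaklyClosedSubgroup p Q :=
  isWeaklyClosedSubgroup_of_normalizer hQ fun _ hR hQR => normalizer_le_of_large hQ1 hL hR hQR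

/-- Two conjugates of a large subgroup have no common centralizer. -/
theorem centralizer_inf_conj_eq_bot {Q : Subgroup G} (hQ : IsPGroup p Q) (hQ1 : Q ≠ ⊥) (hL : Cfsg.IsLarge Q)
    {g : G} (hg : g ∉ normalizer (Q : Set G)) :
    centralizer (Q : Set G) ⊓ centralizer ((Q.map (MulAut.conj g).toMonoidHom : Subgroup G) : Set G) = ⊥ := by
  by_contra hne
  have h1 := hL.2 _ inf_le_left hne
  have h2 : Q.map (MulAut.conj g).toMonoidHom ≤ normalizer (Q : Set G) :=
    ((le_centralizer_iff.mp inf_le_right).trans (centralizer_le_normalizer _)).trans h1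
  have h3 : IsPGroup p ↥(Q.map (MulAut.conj g).toMonoidHom ⊔ Q) := (hQ.map _).to_sup_of_normal_right' hQ h2
  exact hg (CfsgLib.Subnormal.conj_eq_self_iff.mp
    (conj_eq_of_le (isWeaklyClosedSubgroup_of_large hQ hQ1 hL) h3 le_sup_right le_sup_left))

end CfsgLib.PReduced
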