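import Cfsg.Agent.S2850
import Cfsg.Agent.S2859
import Cfsg.Agent.PReduced.PIrreducible

/-!
Consequences of asymmetry of `Y_M`, and the structure of the subgroups which are critical for it.
-/

set_option autoImplicit false

namespace CfsgLib.PReduced.Asym

open Subgroup CfsgLib.PReduced CfsgLib.Subnormal
open scoped commutatorElement

variable {G : Type*} [Group G] [Finite G] {p : ℕ} [Fact p.Prime]

/-- The standing hypotheses: a large subgroup, a subgroup with the basic property, and asymmetry. -/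
structure Setting (p : ℕ) (S : Sylow p G) (Q M : Subgroup G) : Prop where
  hQp : IsPGroup p Q
  hQS : Q ≤ (S : Subgroup G)
  hQ : Cfsg.IsLarge Q
  hSM : (S : Subgroup G) ≤ M
  hM : Cfsg.IsInFrakM p M
  hasym : ¬ Cfsg.IsSymmetricIn (Cfsg.largestPReducedOf p M)

theorem pCoreOf_mono_of_normal {K H : Subgroup G} (hKH : K ≤ H) (hn : H ≤ normalizer (K : Set G)) :
    Cfsg.pCoreOf p K ≤ Cfsg.pCoreOf p H :=
  le_pCoreOf ((pCoreOf_le K).trans hKH) (hn.trans (normalizer_le_normalizer_pCoreOf K)) (isPGroup_pCoreOf K)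

variable {S : Sylow p G} {Q M : Subgroup G}

theorem Setting.weaklyClosed (h : Setting p S Q M) : Cfsg.IsWeaklyClosedSubgroup p (Cfsg.pCoreOf p M) :=
  (Cfsg.Agent.S2850.weaklyClosed S h.hQp h.hQS h.hQ M h.hSM h.hM h.hasym).1

theorem Setting.normalizer_le_dagger (h : Setting p S Q M) :
    normalizer (Cfsg.pCoreOf p M : Set G) ≤ M ⊔ centralizer (Cfsg.largestPReducedOf p M : Set G) :=
  (Cfsg.Agent.S2850.weaklyClosed S h.hQp h.hQS h.hQ M h.hSM h.hM h.hasym).2

omit [Finite G] [Fact p.Prime] in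
theorem dagger_le_normalizer (M : Subgroup G) :
    M ⊔ centralizer (Cfsg.largestPReducedOf p M : Set G) ≤ normalizer (Cfsg.largestPReducedOf p M : Set G) :=
  sup_le (le_normalizer_largestPReducedOf M) (centralizer_le_normalizer _)

theorem Setting.normalizer_le (h : Setting p S Q M) :
    normalizer (Cfsg.pCoreOf p M : Set G) ≤ normalizer (Cfsg.largestPReducedOf p M : Set G) :=
  h.normalizer_le_dagger.trans (dagger_le_normalizer M)

theorem Setting.normalizer_eq (h : Setting p S Q M) :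
    normalizer (Cfsg.largestPReducedOf p M : Set G) = M ⊔ centralizer (Cfsg.largestPReducedOf p M : Set G) := by
  refine le_antisymm ?_ (dagger_le_normalizer M)
  set Y := Cfsg.largestPReducedOf p M with hY
  by_cases hYne : Y = ⊥
  · refine le_trans le_top (le_trans ?_ le_sup_right)
    rw [hYne]
    intro x _
    exact mem_centralizer_iff.mpr fun y hy => by rw [mem_bot.mp hy, one_mul, mul_one]
  set X := normalizer (Y : Set G) with hX
  have hMX : M ≤ X := le_normalizer_largestPReducedOf M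
  have hYp : IsPGroup p Y := isPGroup_of_isElementaryAbelian (isElementaryAbelian_largestPReducedOf M)
  have hYP : Y ≤ Cfsg.pCoreOf p X := le_pCoreOf le_normalizer le_rfl hYp
  have hPne : Cfsg.pCoreOf p X ≠ ⊥ := fun e => hYne (le_bot_iff.mp (e ▸ hYP))
  have hXm : X ∈ Cfsg.charPSubgroups p G := by
    refine ⟨fun e => hPne (by rw [Cfsg.pCoreOf, e, Subgroup.map_bot]), ?_⟩
    exact le_pCoreOf ((centralizer_le hYP).trans (centralizer_le_normalizer _))
      ((le_normalizer_pCoreOf X).trans (normalizer_le_normalizer_centralizer _))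
      (isPGroup_centralizer_pCoreOf_of_large h.hQp h.hQ (h.hQS.trans (h.hSM.trans hMX)) hPne)
  obtain ⟨Z, ⟨hZ, hXZ⟩, hmax⟩ := (Set.toFinite {Z | Z ∈ Cfsg.charPSubgroups p G ∧ X ≤ Z}).exists_maximal
    ⟨X, hXm, le_rfl⟩
  have hZm : Z ∈ Cfsg.maxCharPSubgroups p G :=
    ⟨hZ, fun A hA hZA => le_antisymm (hmax (y := A) ⟨hA, hXZ.trans hZA⟩ hZA) hZA⟩
  exact hXZ.trans (h.hM.2.2.1 Z hZm (hMX.trans hXZ)).le

/-- A p-subgroup containing `O_p(M)` normalizes it. -/
theorem Setting.le_normalizer_of_isPGroup (h : Setting p S Q M) {P : Subgroup G} (hP : IsPGroup p P)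
    (hOP : Cfsg.pCoreOf p M ≤ P) : P ≤ normalizer (Cfsg.pCoreOf p M : Set G) :=
  le_normalizer.trans (normalizer_le_of_weaklyClosed h.weaklyClosed hP hOP)

/-- A Sylow subgroup of `L` containing `O_p(M)`, inside `N(O_p(M))`. -/
theorem Setting.exists_sylow (h : Setting p S Q M) {L : Subgroup G} (hOL : Cfsg.pCoreOf p M ≤ L) :
    ∃ P : Sylow p L, Cfsg.pCoreOf p M ≤ (P : Subgroup L).map L.subtype ∧
      (P : Subgroup L).map L.subtype ≤ normalizer (Cfsg.pCoreOf p M : Set G) := by
  obtain ⟨P, hP⟩ := ((isPGroup_pCoreOf M).of_equiv (subgroupOfEquivOfLe hOL).symm :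
    IsPGroup p ((Cfsg.pCoreOf p M).subgroupOf L)).exists_le_sylow
  have hle : Cfsg.pCoreOf p M ≤ (P : Subgroup L).map L.subtype := fun x hx => ⟨⟨x, hOL hx⟩, hP hx, rfl⟩
  exact ⟨P, hle, h.le_normalizer_of_isPGroup (P.isPGroup'.map L.subtype) hle⟩

theorem Setting.pCoreOf_le_normalizer (h : Setting p S Q M) {L : Subgroup G} (hOL : Cfsg.pCoreOf p M ≤ L) :
    Cfsg.pCoreOf p L ≤ normalizer (Cfsg.pCoreOf p M : Set G) := by
  obtain ⟨P, -, hP⟩ := h.exists_sylow hOL
  exact (map_mono (CfsgLib.PReduced.pCore_le_sylow P)).trans hP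

/-- `H` is critical: `Y_M ≰ O_p(H)` but `Y_M ≤ O_p(P)` for the proper subgroups `P ≥ O_p(M)`. -/
structure Crit (p : ℕ) (M H : Subgroup G) : Prop where
  hO : Cfsg.pCoreOf p M ≤ H
  hY : ¬ Cfsg.largestPReducedOf p M ≤ Cfsg.pCoreOf p H
  hmin : ∀ P : Subgroup G, Cfsg.pCoreOf p M ≤ P → P < H →
    Cfsg.largestPReducedOf p M ≤ Cfsg.pCoreOf p P

theorem crit_of_frakH {H : Subgroup G} (hH : Cfsg.IsInFrakH p M H) : Crit p M H := ⟨hH.2.1, hH.2.2.1, hH.2.2.2⟩

theorem Crit.normalClosure_eq {H : Subgroup G} (hc : Crit p M H) :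
    (normalClosure (((Cfsg.pCoreOf p M).subgroupOf H : Subgroup H) : Set H)).map H.subtype = H := by
  set N := (normalClosure (((Cfsg.pCoreOf p M).subgroupOf H : Subgroup H) : Set H)).map H.subtype with hN
  have hNH : N ≤ H := map_subtype_le _
  by_contra hne
  have hON : Cfsg.pCoreOf p M ≤ N := fun x hx => ⟨⟨x, hc.hO hx⟩, subset_normalClosure hx, rfl⟩
  exact hc.hY ((hc.hmin N hON (lt_of_le_of_ne hNH hne)).trans
    (pCoreOf_mono_of_normal hNH (le_normalizer_map_subtype H _)))

theorem Crit.le_of_normalized {H K : Subgroup G} (hc : Crit p M H) (hK : H ≤ normalizer (K : Set G))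
    (hO : Cfsg.pCoreOf p M ≤ K) : H ≤ K := by
  rw [← hc.normalClosure_eq, map_le_iff_le_comap]
  haveI : (K.subgroupOf H).Normal := normal_subgroupOf_of_le_normalizer hK
  exact normalClosure_le_normal (N := K.subgroupOf H) fun x hx => hO hx

/-- `H = O^p(H) O_p(M)`. -/
theorem Crit.residual_sup {H : Subgroup G} (hc : Crit p M H) :
    (Cfsg.pResidual p ↥H).map H.subtype ⊔ Cfsg.pCoreOf p M = H := by
  have hgen : normalClosure (((Cfsg.pCoreOf p M).subgroupOf H : Subgroup H) : Set H) = ⊤ :=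
    map_injective H.subtype_injective (hc.normalClosure_eq.trans (by rw [← MonoidHom.range_eq_map, range_subtype]))
  have h := congrArg (Subgroup.map H.subtype) (Cfsg.Agent.S2859.residual_commutator _
    ((isPGroup_pCoreOf M).of_equiv (subgroupOfEquivOfLe hc.hO).symm) hgen).1
  rwa [Subgroup.map_sup, map_subgroupOf_eq_of_le hc.hO, ← MonoidHom.range_eq_map, range_subtype] at h

omit [Finite G] in
theorem le_normalizer_residual (H : Subgroup G) :
    H ≤ normalizer ((Cfsg.pResidual p ↥H).map H.subtype : Set G) := by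
  haveI : (Cfsg.pResidual p ↥H).Normal := CfsgLib.Transfer.pResidual_normal
  exact le_normalizer_map_subtype H _

/-- `O^p(H) = [O^p(H), Y_M]`, and the closure of `Y_M` in `H`. -/
theorem Crit.residual_commutator {H : Subgroup G} (hc : Crit p M H) :
    ⁅(Cfsg.pResidual p ↥H).map H.subtype, Cfsg.largestPReducedOf p M⁆ = (Cfsg.pResidual p ↥H).map H.subtype ∧
      (Cfsg.pResidual p ↥H).map H.subtype ⊔ Cfsg.largestPReducedOf p M =
        (normalClosure (((Cfsg.largestPReducedOf p M).subgroupOf H : Subgroup H) : Set H)).map H.subtype := by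
  set R := (Cfsg.pResidual p ↥H).map H.subtype with hR
  set Y := Cfsg.largestPReducedOf p M with hY
  set O := Cfsg.pCoreOf p M with hO
  have hRH : R ≤ H := map_subtype_le _
  have hYO : Y ≤ O := largestPReducedOf_le_pCoreOf M
  have hYH : Y ≤ H := hYO.trans hc.hO
  have hRn : H ≤ normalizer (R : Set G) := le_normalizer_residual H
  have hOY : O ≤ centralizer (Y : Set G) := pCoreOf_le_centralizer M
  set D := ⁅R, Y⁆ with hD
  have hDR : D ≤ R := CfsgLib.PCore.commutator_le_of_le_normalizer (hYH.trans hRn)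
  have hDn : H ≤ normalizer (D : Set G) := by
    conv_lhs => rw [← hc.residual_sup]
    exact sup_le CfsgLib.CoprimeAction.self_le_normalizer_commutator
      (CfsgLib.PCore.le_normalizer_commutator (hc.hO.trans hRn) (hOY.trans (centralizer_le_normalizer _)))
  have hKn : H ≤ normalizer ((D ⊔ Y : Subgroup G) : Set G) := by
    conv_lhs => rw [← hc.residual_sup]
    refine sup_le ?_ ?_
    · intro r hr
      refine conj_eq_self_iff.mp (Subgroup.eq_of_le_of_card_ge ?_
        (Subgroup.card_map_of_injective (MulAut.conj r).injective).ge)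
      rw [Subgroup.map_sup]
      refine sup_le ((conj_eq_self_iff.mpr (hDn (hRH hr))).le.trans le_sup_left) ?_
      rintro _ ⟨y, hy, rfl⟩
      show r * y * r⁻¹ ∈ D ⊔ Y
      rw [show r * y * r⁻¹ = ⁅r, y⁆ * y by rw [commutatorElement_def]; group]
      exact mul_mem (mem_sup_left (commutator_mem_commutator hr hy)) (mem_sup_right hy)
    · refine le_trans (le_inf (hc.hO.trans hDn) (hOY.trans (centralizer_le_normalizer _))) ?_
      exact normalizer_inf_le_normalizer_sup D Y
  have hDO : D ⊔ O = H := by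
    refine le_antisymm (sup_le (hDR.trans hRH) hc.hO) ?_
    by_contra hne
    have hlt : D ⊔ O < H :=
      lt_of_le_not_ge (sup_le (hDR.trans hRH) hc.hO) hne
    set K := D ⊔ Y with hK
    have hKX : K ≤ D ⊔ O := sup_le_sup_left hYO D
    have hKH : K ≤ H := sup_le (hDR.trans hRH) hYH
    have h1 : Y ≤ Cfsg.pCoreOf p (D ⊔ O) ⊓ K := le_inf (hc.hmin _ le_sup_right hlt) le_sup_right
    have h2 : Cfsg.pCoreOf p (D ⊔ O) ⊓ K ≤ Cfsg.pCoreOf p K :=
      le_pCoreOf inf_le_right (fun k hk => inf_normalizer_le_normalizer_inf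
        ⟨le_normalizer_pCoreOf _ (hKX hk), le_normalizer hk⟩) ((isPGroup_pCoreOf _).to_le inf_le_left)
    exact hc.hY ((h1.trans h2).trans (pCoreOf_mono_of_normal hKH hKn))
  have hRD : R ≤ D := Cfsg.Agent.S2859.residualOf_le fun x hx hco =>
    Cfsg.Agent.S2859.mem_of_coprime (hc.hO.trans hDn) (isPGroup_pCoreOf M) (hDO.symm ▸ hx) hco
  have hDeq : D = R := le_antisymm hDR hRD
  refine ⟨hDeq, le_antisymm ?_ ?_⟩
  · set N := (normalClosure ((Y.subgroupOf H : Subgroup H) : Set H)).map H.subtype with hN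
    have hYN : Y ≤ N := fun x hx => ⟨⟨x, hYH hx⟩, subset_normalClosure hx, rfl⟩
    refine sup_le ?_ hYN
    rw [← hDeq]
    refine (commutator_mono le_rfl hYN).trans (le_trans ?_ le_rfl)
    rw [commutator_comm]
    exact CfsgLib.PCore.commutator_le_of_le_normalizer (hRH.trans (le_normalizer_map_subtype H _))
  · rw [map_le_iff_le_comap]
    rw [hDeq] at hKn
    haveI : ((R ⊔ Y).subgroupOf H).Normal := normal_subgroupOf_of_le_normalizer hKn
    exact normalClosure_le_normal (N := (R ⊔ Y).subgroupOf H) fun x hx => le_sup_right (a := R) hx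

end CfsgLib.PReduced.Asym
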