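import Cfsg.Agent.PReduced.Asym
import Cfsg.Agent.PReduced.Hom
import Cfsg.Agent.S0199

/-!
Minimal subgroups `L ≥ Y_M` of a critical subgroup `H` with `Y_M ≰ O_p(L)`.
-/

set_option autoImplicit false

namespace CfsgLib.PReduced.Asym

open Subgroup CfsgLib.PReduced CfsgLib.Subnormal
open scoped commutatorElement

variable {G : Type*} [Group G]

/-- The elements normalizing `W` which act trivially on `V` modulo `W`. -/
def triv (V W : Subgroup G) : Subgroup G where
  carrier := {g | g ∈ normalizer (W : Set G) ∧ ∀ v ∈ V, ⁅g, v⁆ ∈ W}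
  one_mem' := ⟨one_mem _, fun v _ => by simp [one_mem]⟩
  mul_mem' := by
    rintro a b ⟨ha, ha'⟩ ⟨hb, hb'⟩
    refine ⟨mul_mem ha hb, fun v hv => ?_⟩
    rw [show ⁅a * b, v⁆ = a * ⁅b, v⁆ * a⁻¹ * ⁅a, v⁆ by simp only [commutatorElement_def]; group]
    exact mul_mem ((mem_normalizer_iff.mp ha _).mp (hb' v hv)) (ha' v hv)
  inv_mem' := by
    rintro a ⟨ha, ha'⟩
    refine ⟨inv_mem ha, fun v hv => ?_⟩
    rw [show ⁅a⁻¹, v⁆ = a⁻¹ * ⁅a, v⁆⁻¹ * (a⁻¹)⁻¹ by simp only [commutatorElement_def]; group]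
    exact (mem_normalizer_iff.mp (inv_mem ha) _).mp (inv_mem (ha' v hv))

theorem mem_triv {V W : Subgroup G} {g : G} :
    g ∈ triv V W ↔ g ∈ normalizer (W : Set G) ∧ ∀ v ∈ V, ⁅g, v⁆ ∈ W := Iff.rfl

variable [Finite G]

theorem conj_mem_triv {V W : Subgroup G} {g h : G} (hV : g ∈ normalizer (V : Set G))
    (hW : g ∈ normalizer (W : Set G)) (hh : h ∈ triv V W) : g * h * g⁻¹ ∈ triv V W := by
  refine ⟨mul_mem (mul_mem hW hh.1) (inv_mem hW), fun v hv => ?_⟩
  rw [show ⁅g * h * g⁻¹, v⁆ = g * ⁅h, g⁻¹ * v * g⁆ * g⁻¹ by simp only [commutatorElement_def]; group]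
  refine (mem_normalizer_iff.mp hW _).mp (hh.2 _ ?_)
  simpa using (mem_normalizer_iff.mp (inv_mem hV) v).mp hv

theorem le_normalizer_triv {V W X : Subgroup G} (hV : X ≤ normalizer (V : Set G))
    (hW : X ≤ normalizer (W : Set G)) : X ≤ normalizer (triv V W : Set G) := by
  intro g hg
  refine conj_eq_self_iff.mp (Subgroup.eq_of_le_of_card_ge ?_
    (card_map_of_injective (MulAut.conj g).injective).ge)
  rintro _ ⟨h, hh, rfl⟩
  exact conj_mem_triv (hV hg) (hW hg) hh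

/-- Subgroups between `W` and `V` are normalized by elements acting trivially modulo a smaller subgroup. -/
theorem le_normalizer_of_commutator {X V W U : Subgroup G} (hVU : V ≤ U) (hWV : W ≤ V) (h : ⁅X, U⁆ ≤ W) :
    X ≤ normalizer (V : Set G) := by
  intro g hg
  refine conj_eq_self_iff.mp (Subgroup.eq_of_le_of_card_ge ?_
    (card_map_of_injective (MulAut.conj g).injective).ge)
  rintro _ ⟨v, hv, rfl⟩
  show g * v * g⁻¹ ∈ V
  rw [show g * v * g⁻¹ = ⁅g, v⁆ * v by rw [commutatorElement_def]; group]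
  exact mul_mem (hWV (h (commutator_mem_commutator hg (hVU hv)))) hv

theorem le_triv {X V W : Subgroup G} (hn : X ≤ normalizer (W : Set G)) (h : ⁅X, V⁆ ≤ W) : X ≤ triv V W :=
  fun _ hx => ⟨hn hx, fun _ hv => h (commutator_mem_commutator hx hv)⟩

variable {p : ℕ} [Fact p.Prime]

omit [Finite G] in
/-- Coprime elements stabilizing `V ⊇ W` and centralizing `W` centralize `V`. -/
theorem mem_centralizer_of_triv [Finite G] {V W : Subgroup G} {h : G} (hW : IsPGroup p W) (hco : (orderOf h).Coprime p)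
    (hV : h ∈ triv V W) (hc : h ∈ centralizer (W : Set G)) : h ∈ centralizer (V : Set G) := by
  obtain ⟨k, hk⟩ := IsPGroup.iff_card.mp hW
  have h1 : ⁅V, zpowers h⁆ ≤ W := commutator_le.mpr fun v hv z hz => by
    rw [← commutatorElement_inv]
    exact inv_mem ((mem_triv.mp (zpowers_le.mpr hV hz)).2 v hv)
  exact zpowers_le.mp (CfsgLib.PCore.le_centralizer_of_stabilizes (Q := W)
    (by rw [Nat.card_zpowers, hk]; exact hco.pow_right k) h1 (h1.trans (le_centralizer_iff.mp (zpowers_le.mpr hc))))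

/-- The configuration: `H` critical of characteristic `p`, and `L = ⟨Y, xYx⁻¹⟩` inside it, minimal. -/
structure Conf (p : ℕ) (S : Sylow p G) (Q M H L : Subgroup G) (x : G) : Prop where
  hs : Setting p S Q M
  hc : Crit p M H
  hH : CharPOf p H
  hLH : L ≤ H
  hYL : Cfsg.largestPReducedOf p M ≤ L
  hYO : ¬ Cfsg.largestPReducedOf p M ≤ Cfsg.pCoreOf p L
  hmin : ∀ L' : Subgroup G, L' ≤ L → Cfsg.largestPReducedOf p M ≤ L' →
    ¬ Cfsg.largestPReducedOf p M ≤ Cfsg.pCoreOf p L' → L' = L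
  hx : x ∈ L
  hgen : Cfsg.largestPReducedOf p M ⊔ (Cfsg.largestPReducedOf p M).map (MulAut.conj x).toMonoidHom = L

theorem exists_generator {M L : Subgroup G} (hYL : Cfsg.largestPReducedOf p M ≤ L)
    (hYO : ¬ Cfsg.largestPReducedOf p M ≤ Cfsg.pCoreOf p L)
    (hmin : ∀ L' : Subgroup G, L' ≤ L → Cfsg.largestPReducedOf p M ≤ L' →
      ¬ Cfsg.largestPReducedOf p M ≤ Cfsg.pCoreOf p L' → L' = L) :
    ∃ x ∈ L, Cfsg.largestPReducedOf p M ⊔ (Cfsg.largestPReducedOf p M).map (MulAut.conj x).toMonoidHom = L := by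
  set Y := Cfsg.largestPReducedOf p M with hY
  have hYp : IsPGroup p Y := isPGroup_of_isElementaryAbelian (isElementaryAbelian_largestPReducedOf M)
  by_contra! hno
  have hY' : IsPGroup p (Y.subgroupOf L) := hYp.of_equiv (subgroupOfEquivOfLe hYL).symm
  obtain ⟨N, hN, hNp, hYN⟩ := Cfsg.Agent.S0199.result (Y.subgroupOf L) hY' fun g => by
    set L' := Y ⊔ Y.map (MulAut.conj (g : G)).toMonoidHom with hL'
    have hgL : Y.map (MulAut.conj (g : G)).toMonoidHom ≤ L := by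
      rintro _ ⟨y, hy, rfl⟩
      exact L.mul_mem (L.mul_mem g.2 (hYL hy)) (L.inv_mem g.2)
    have hYp' : Y ≤ Cfsg.pCoreOf p L' := by
      by_contra hnle
      exact hno g g.2 (hmin L' (sup_le hYL hgL) le_sup_left hnle)
    have hLp : IsPGroup p L' := by
      refine ((hYp.map (MulAut.conj (g : G)).toMonoidHom).to_sup_of_normal_right' (isPGroup_pCoreOf L')
        ((le_sup_right : _ ≤ L').trans (le_normalizer_pCoreOf L'))).to_le (sup_le ?_ le_sup_left)
      exact hYp'.trans le_sup_right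
    refine (hLp.comap_of_injective L.subtype L.subtype_injective).to_le (sup_le (fun a ha => mem_sup_left ha) ?_)
    rintro _ ⟨a, ha, rfl⟩
    exact mem_sup_right ⟨a, ha, rfl⟩
  refine hYO fun y hy => ⟨⟨y, hYL hy⟩, CfsgLib.PReduced.le_pCore hN hNp (hYN hy), rfl⟩

variable {S : Sylow p G} {Q M H L : Subgroup G} {x : G}

theorem sup_eq_of_not_le (hc : Crit p M H) (hLH : L ≤ H) (hYL : Cfsg.largestPReducedOf p M ≤ L)
    (hYO : ¬ Cfsg.largestPReducedOf p M ≤ Cfsg.pCoreOf p L) : L ⊔ Cfsg.pCoreOf p M = H := by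
  by_contra hne
  have h1 := hc.hmin _ le_sup_right (lt_of_le_of_ne (sup_le hLH hc.hO) hne)
  refine hYO ((le_inf h1 hYL).trans (le_pCoreOf inf_le_right ?_ ((isPGroup_pCoreOf _).to_le inf_le_left)))
  exact fun y hy => inf_normalizer_le_normalizer_inf
    ⟨le_normalizer_pCoreOf _ (le_sup_left (b := Cfsg.pCoreOf p M) hy), le_normalizer hy⟩

local notation "𝐘" M => Cfsg.largestPReducedOf p M

namespace Conf

variable (c : Conf p S Q M H L x)
include c

theorem hyp : IsPGroup p (Cfsg.largestPReducedOf p M) :=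
  isPGroup_of_isElementaryAbelian (isElementaryAbelian_largestPReducedOf M)

theorem sup_eq : L ⊔ Cfsg.pCoreOf p M = H := sup_eq_of_not_le c.hc c.hLH c.hYL c.hYO

theorem yH : (𝐘 M) ≤ H := c.hYL.trans c.hLH

theorem U_le_normalizer {g : G} (hg : g ∈ H) :
    Cfsg.pCoreOf p H ≤ normalizer (((𝐘 M).map (MulAut.conj g).toMonoidHom : Subgroup G) : Set G) := by
  have h1 := map_mono (f := (MulAut.conj g).toMonoidHom)
    ((c.hs.pCoreOf_le_normalizer c.hc.hO).trans c.hs.normalizer_le)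
  rw [conj_eq_self_iff.mpr (le_normalizer_pCoreOf H hg)] at h1
  exact h1.trans (le_normalizer_map _)

theorem U_le_normalizer_one : Cfsg.pCoreOf p H ≤ normalizer ((𝐘 M : Subgroup G) : Set G) :=
  (c.hs.pCoreOf_le_normalizer c.hc.hO).trans c.hs.normalizer_le

/-- `A = Y ∩ O_p(H)`; here for a conjugate. -/
theorem map_inf_U {g : G} (hg : g ∈ H) :
    ((𝐘 M) ⊓ Cfsg.pCoreOf p H).map (MulAut.conj g).toMonoidHom =
      (𝐘 M).map (MulAut.conj g).toMonoidHom ⊓ Cfsg.pCoreOf p H := by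
  rw [map_inf _ _ _ (MulAut.conj g).injective, conj_eq_self_iff.mpr (le_normalizer_pCoreOf H hg)]

theorem comm_Y_U {g : G} (hg : g ∈ H) :
    ⁅(𝐘 M).map (MulAut.conj g).toMonoidHom, Cfsg.pCoreOf p H⁆ ≤
      ((𝐘 M) ⊓ Cfsg.pCoreOf p H).map (MulAut.conj g).toMonoidHom := by
  rw [c.map_inf_U hg]
  refine le_inf (CfsgLib.PCore.commutator_le_of_le_normalizer (c.U_le_normalizer hg)) ?_
  rw [commutator_comm]
  refine CfsgLib.PCore.commutator_le_of_le_normalizer (le_trans ?_ (le_normalizer_pCoreOf H))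
  rintro _ ⟨y, hy, rfl⟩
  exact H.mul_mem (H.mul_mem hg (c.yH hy)) (H.inv_mem hg)

theorem comm_Y_U_one : ⁅(𝐘 M), Cfsg.pCoreOf p H⁆ ≤ (𝐘 M) ⊓ Cfsg.pCoreOf p H := by
  have h := c.comm_Y_U (one_mem H)
  rwa [conj_one, conj_one] at h

theorem comm_O_U : ⁅Cfsg.pCoreOf p M, Cfsg.pCoreOf p H⁆ ≤
    Cfsg.pCoreOf p H ⊓ centralizer ((𝐘 M : Subgroup G) : Set G) := by
  refine le_inf ?_ ((CfsgLib.PCore.commutator_le_of_le_normalizer (c.hs.pCoreOf_le_normalizer c.hc.hO)).trans
    (pCoreOf_le_centralizer M))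
  rw [commutator_comm]
  exact CfsgLib.PCore.commutator_le_of_le_normalizer (c.hc.hO.trans (le_normalizer_pCoreOf H))

/-- `L` normalizes every subgroup of `O_p(H)` over `A` and `xAx⁻¹`. -/
theorem L_le_normalizer {V : Subgroup G} (hVU : V ≤ Cfsg.pCoreOf p H) (hA : (𝐘 M) ⊓ Cfsg.pCoreOf p H ≤ V)
    (hAx : ((𝐘 M) ⊓ Cfsg.pCoreOf p H).map (MulAut.conj x).toMonoidHom ≤ V) : L ≤ normalizer (V : Set G) := by
  conv_lhs => rw [← c.hgen]
  exact sup_le (le_normalizer_of_commutator hVU hA c.comm_Y_U_one)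
    (le_normalizer_of_commutator hVU hAx (c.comm_Y_U (c.hLH c.hx)))

theorem L_le_triv {V : Subgroup G} (hVU : V ≤ Cfsg.pCoreOf p H) (hA : (𝐘 M) ⊓ Cfsg.pCoreOf p H ≤ V)
    (hAx : ((𝐘 M) ⊓ Cfsg.pCoreOf p H).map (MulAut.conj x).toMonoidHom ≤ V) :
    L ≤ triv (Cfsg.pCoreOf p H) V := by
  have hn := c.L_le_normalizer hVU hA hAx
  conv_lhs => rw [← c.hgen]
  rw [← c.hgen] at hn
  exact sup_le (le_triv (le_sup_left.trans hn) (c.comm_Y_U_one.trans hA))
    (le_triv (le_sup_right.trans hn) ((c.comm_Y_U (c.hLH c.hx)).trans hAx))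

theorem centralizes_L {a : G} (h1 : a ∈ centralizer ((𝐘 M : Subgroup G) : Set G))
    (h2 : a ∈ centralizer (((𝐘 M).map (MulAut.conj x).toMonoidHom : Subgroup G) : Set G)) :
    ∀ l ∈ L, l * a = a * l := by
  intro l hl
  have : L ≤ centralizer ({a} : Set G) := by
    conv_lhs => rw [← c.hgen]
    exact sup_le (fun y hy => mem_centralizer_singleton_iff.mpr (mem_centralizer_iff.mp h1 y hy))
      (fun y hy => mem_centralizer_singleton_iff.mpr (mem_centralizer_iff.mp h2 y hy))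
  exact mem_centralizer_singleton_iff.mp (this hl)

theorem A_le_C : (𝐘 M) ⊓ Cfsg.pCoreOf p H ≤ centralizer ((𝐘 M : Subgroup G) : Set G) :=
  inf_le_left.trans (le_centralizer_self (isElementaryAbelian_largestPReducedOf M))

theorem A_map_le_U {g : G} (hg : g ∈ H) :
    ((𝐘 M) ⊓ Cfsg.pCoreOf p H).map (MulAut.conj g).toMonoidHom ≤ Cfsg.pCoreOf p H :=
  (c.map_inf_U hg).le.trans inf_le_right

/-- `C_{A A^x}(Y) = A`. -/
theorem centralizer_inf {v : G}
    (hv : v ∈ ((𝐘 M) ⊓ Cfsg.pCoreOf p H) ⊔ ((𝐘 M) ⊓ Cfsg.pCoreOf p H).map (MulAut.conj x).toMonoidHom)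
    (hvC : v ∈ centralizer ((𝐘 M : Subgroup G) : Set G)) : v ∈ (𝐘 M) ⊓ Cfsg.pCoreOf p H := by
  have hxH := c.hLH c.hx
  have hn : (𝐘 M) ⊓ Cfsg.pCoreOf p H ≤
      normalizer ((((𝐘 M) ⊓ Cfsg.pCoreOf p H).map (MulAut.conj x).toMonoidHom : Subgroup G) : Set G) := by
    rw [c.map_inf_U hxH]
    exact fun a ha => inf_normalizer_le_normalizer_inf ⟨c.U_le_normalizer hxH ha.2, le_normalizer ha.2⟩
  rw [← SetLike.mem_coe, coe_mul_of_left_le_normalizer_right _ _ hn] at hv
  obtain ⟨a, ha, b, hb, rfl⟩ := hv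
  have hbC : b ∈ centralizer ((𝐘 M : Subgroup G) : Set G) := by
    have := mul_mem (inv_mem (c.A_le_C ha)) hvC
    simpa using this
  obtain ⟨b₀, hb₀, hbe⟩ := hb
  have hbe' : x * b₀ * x⁻¹ = b := hbe
  have hbC2 : b ∈ centralizer (((𝐘 M).map (MulAut.conj x).toMonoidHom : Subgroup G) : Set G) := by
    refine mem_centralizer_iff.mpr ?_
    rintro _ ⟨y, hy, rfl⟩
    show x * y * x⁻¹ * b = b * (x * y * x⁻¹)
    have := mem_centralizer_iff.mp (c.A_le_C hb₀) y hy
    rw [← hbe']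
    calc x * y * x⁻¹ * (x * b₀ * x⁻¹) = x * (y * b₀) * x⁻¹ := by group
      _ = x * (b₀ * y) * x⁻¹ := by rw [this]
      _ = _ := by group
  have hcomm := c.centralizes_L hbC hbC2 x c.hx
  have hbb : b = b₀ := by
    have h3 : x⁻¹ * b * x = b₀ := by rw [← hbe']; group
    rw [← h3, mul_assoc, ← hcomm, ← mul_assoc, inv_mul_cancel, one_mul]
  exact mul_mem ha (hbb ▸ hb₀)

theorem conf_inv : Conf p S Q M H L x⁻¹ := by
  refine { c with hx := inv_mem c.hx, hgen := ?_ }
  have h := congrArg (Subgroup.map (MulAut.conj x⁻¹).toMonoidHom) c.hgen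
  rw [Subgroup.map_sup, conj_conj, inv_mul_cancel, conj_one,
    conj_eq_self_iff.mpr (le_normalizer (inv_mem c.hx))] at h
  rw [sup_comm]; exact h

/-- Subgroups of `O_p(H)` over `C(Y) ∩ O_p(H)` and a conjugate of `A` are normal in `H`. -/
theorem B_normal {V : Subgroup G} (hVU : V ≤ Cfsg.pCoreOf p H)
    (h0 : Cfsg.pCoreOf p H ⊓ centralizer ((𝐘 M : Subgroup G) : Set G) ≤ V)
    (hAx : ((𝐘 M) ⊓ Cfsg.pCoreOf p H).map (MulAut.conj x).toMonoidHom ≤ V) : H ≤ normalizer (V : Set G) := by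
  conv_lhs => rw [← c.sup_eq]
  exact sup_le (c.L_le_normalizer hVU ((le_inf inf_le_right c.A_le_C).trans h0) hAx)
    (le_normalizer_of_commutator hVU h0 c.comm_O_U)

/-- Elements of `C(Y) ∩ O_p(H)` are products of elements of `A` and fixed points of `L`. -/
theorem decompose {u : G} (hu : u ∈ Cfsg.pCoreOf p H ⊓ centralizer ((𝐘 M : Subgroup G) : Set G)) :
    ∃ a ∈ (𝐘 M) ⊓ Cfsg.pCoreOf p H, ∀ l ∈ L, l * (a⁻¹ * u) = (a⁻¹ * u) * l := by
  set U := Cfsg.pCoreOf p H with hU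
  set A := (𝐘 M) ⊓ U with hA
  set U₀ := U ⊓ centralizer ((𝐘 M : Subgroup G) : Set G) with hU₀
  have hxH := c.hLH c.hx
  have hAU₀ : A ≤ U₀ := le_inf inf_le_right c.A_le_C
  set B := U₀ ⊔ A.map (MulAut.conj x).toMonoidHom with hB
  set B' := U₀ ⊔ A.map (MulAut.conj x⁻¹).toMonoidHom with hB'
  have hB'U : B' ≤ U := sup_le inf_le_left (c.A_map_le_U (inv_mem hxH))
  have hB'n : H ≤ normalizer (B' : Set G) := c.conf_inv.B_normal hB'U le_sup_left le_sup_right
  have he : B'.map (MulAut.conj x).toMonoidHom = B' := conj_eq_self_iff.mpr (hB'n hxH)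
  have hu' : u ∈ U₀.map (MulAut.conj x).toMonoidHom ⊔ A := by
    have h1 : u ∈ B'.map (MulAut.conj x).toMonoidHom := he.symm ▸ mem_sup_left hu
    rwa [hB', Subgroup.map_sup, conj_conj, mul_inv_cancel, conj_one] at h1
  have hn : A ≤ normalizer ((U₀.map (MulAut.conj x).toMonoidHom : Subgroup G) : Set G) := by
    have hUn : U ≤ normalizer (U₀ : Set G) := fun v hv => inf_normalizer_le_normalizer_inf
      ⟨le_normalizer hv, normalizer_le_normalizer_centralizer _ (c.U_le_normalizer_one hv)⟩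
    have h2 := (map_mono (f := (MulAut.conj x).toMonoidHom) hUn).trans (le_normalizer_map _)
    rw [conj_eq_self_iff.mpr (le_normalizer_pCoreOf H hxH)] at h2
    exact (inf_le_right : A ≤ U).trans h2
  rw [sup_comm, ← SetLike.mem_coe, coe_mul_of_left_le_normalizer_right _ _ hn] at hu'
  obtain ⟨a, ha, v, hv, rfl⟩ := hu'
  refine ⟨a, ha, ?_⟩
  rw [inv_mul_cancel_left]
  refine c.centralizes_L ?_ ?_
  · have := mul_mem (inv_mem (c.A_le_C ha)) hu.2
    simpa using this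
  · obtain ⟨v₀, hv₀, rfl⟩ := hv
    refine mem_centralizer_iff.mpr ?_
    rintro _ ⟨y, hy, rfl⟩
    rw [← map_mul, ← map_mul, mem_centralizer_iff.mp hv₀.2 y hy]

/-- The stabilizer of `A` in `L` normalizes `Y`. -/
theorem mem_normalizer_of_fix {k : G} (hk : k ∈ L) (hkA : k ∈ normalizer (((𝐘 M) ⊓ Cfsg.pCoreOf p H : Subgroup G) : Set G)) :
    k ∈ normalizer ((𝐘 M : Subgroup G) : Set G) := by
  set U := Cfsg.pCoreOf p H with hU
  set A := (𝐘 M) ⊓ U with hA
  set C := centralizer ((𝐘 M : Subgroup G) : Set G) with hC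
  set U₀ := U ⊓ C with hU₀
  set O := Cfsg.pCoreOf p M with hO
  have hkH := c.hLH hk
  have hAU₀ : A ≤ U₀ := le_inf inf_le_right c.A_le_C
  have hfix : ∀ u ∈ U₀, ⁅k, u⁆ ∈ A := by
    intro u hu
    obtain ⟨a, ha, hl⟩ := c.decompose hu
    have h1 : ⁅k, u⁆ = k * a * k⁻¹ * a⁻¹ := by
      rw [commutatorElement_def]
      have h2 : k * (a⁻¹ * u) * k⁻¹ = a⁻¹ * u := by rw [hl k hk, mul_inv_cancel_right]
      calc k * u * k⁻¹ * u⁻¹ = k * a * k⁻¹ * (k * (a⁻¹ * u) * k⁻¹) * u⁻¹ := by group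
        _ = k * a * k⁻¹ * (a⁻¹ * u) * u⁻¹ := by rw [h2]
        _ = _ := by group
    rw [h1]
    exact mul_mem ((mem_normalizer_iff.mp hkA a).mp ha) (inv_mem ha)
  have hkU₀ : k ∈ normalizer (U₀ : Set G) := by
    refine conj_eq_self_iff.mp (Subgroup.eq_of_le_of_card_ge ?_
      (card_map_of_injective (MulAut.conj k).injective).ge)
    rintro _ ⟨u, hu, rfl⟩
    show k * u * k⁻¹ ∈ U₀
    rw [show k * u * k⁻¹ = ⁅k, u⁆ * u by rw [commutatorElement_def]; group]
    exact mul_mem (hAU₀ (hfix u hu)) hu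
  have hOH : O ≤ H := c.hc.hO
  have hOC : O ≤ C := pCoreOf_le_centralizer M
  have hOA : O ≤ centralizer (A : Set G) := hOC.trans (centralizer_le inf_le_left)
  have hOU₀ : O ≤ normalizer (U₀ : Set G) := fun o ho => inf_normalizer_le_normalizer_inf
    ⟨le_normalizer_pCoreOf H (hOH ho), le_normalizer (hOC ho)⟩
  set T1 := triv U U₀ with hT1
  set T0 := triv U₀ A with hT0
  have hO1 : O ≤ T1 := le_triv hOU₀ c.comm_O_U
  have hkT0 : k ∈ T0 := ⟨hkA, hfix⟩
  set Ok := O.map (MulAut.conj k).toMonoidHom with hOk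
  have hk1 : Ok ≤ T1 := by
    rintro _ ⟨o, ho, rfl⟩
    exact conj_mem_triv (le_normalizer_pCoreOf H hkH) hkU₀ (hO1 ho)
  have hkc : Ok ≤ centralizer (A : Set G) := by
    rintro _ ⟨o, ho, rfl⟩
    exact (mem_normalizer_iff.mp (normalizer_le_normalizer_centralizer A hkA) o).mp (hOA ho)
  have hk0 : Ok ≤ T0 ⊔ O := by
    rintro _ ⟨o, ho, rfl⟩
    exact mul_mem (mul_mem (mem_sup_left hkT0) (mem_sup_right ho)) (inv_mem (mem_sup_left hkT0))
  have hkH' : Ok ≤ H := by
    rintro _ ⟨o, ho, rfl⟩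
    exact H.mul_mem (H.mul_mem hkH (hOH ho)) (H.inv_mem hkH)
  have hp : IsPGroup p ↥(O ⊔ Ok) := CfsgLib.PCore.isPGroup_of_forall_coprime _ fun h hh hco => by
    have hT : h ∈ T0 := Cfsg.Agent.S2859.mem_of_coprime
      (le_normalizer_triv hOU₀ (hOA.trans (centralizer_le_normalizer _))) (isPGroup_pCoreOf M)
      (SetLike.le_def.mp (sup_le le_sup_right hk0) hh) hco
    have hcA : h ∈ centralizer (A : Set G) := SetLike.le_def.mp (sup_le hOA hkc) hh
    have hc0 : h ∈ centralizer (U₀ : Set G) :=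
      mem_centralizer_of_triv ((isPGroup_pCoreOf H).to_le inf_le_right) hco hT hcA
    exact c.hH h (SetLike.le_def.mp (sup_le hOH hkH') hh) hco
      (mem_centralizer_of_triv ((isPGroup_pCoreOf H).to_le inf_le_left) hco
        (SetLike.le_def.mp (sup_le hO1 hk1) hh) hc0)
  exact c.hs.normalizer_le (conj_eq_self_iff.mp (conj_eq_of_le c.hs.weaklyClosed hp le_sup_left le_sup_right))

/-- A conjugate of `Y` under `L` mutually normalizing with `Y` equals it. -/
theorem mem_normalizer_of_mutual {k : G} (hk : k ∈ L)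
    (h1 : (𝐘 M).map (MulAut.conj k).toMonoidHom ≤ normalizer ((𝐘 M : Subgroup G) : Set G))
    (h2 : (𝐘 M) ≤ normalizer (((𝐘 M).map (MulAut.conj k).toMonoidHom : Subgroup G) : Set G)) :
    k ∈ normalizer ((𝐘 M : Subgroup G) : Set G) := by
  set U := Cfsg.pCoreOf p H with hU
  set A := (𝐘 M) ⊓ U with hA
  have hkH := c.hLH hk
  have hcomm : ⁅(𝐘 M), (𝐘 M).map (MulAut.conj k).toMonoidHom⁆ = ⊥ := by
    by_contra hne
    refine c.hs.hasym ⟨k, hne, le_inf (CfsgLib.PCore.commutator_le_of_le_normalizer h1) ?_⟩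
    rw [commutator_comm]
    exact CfsgLib.PCore.commutator_le_of_le_normalizer h2
  have hC : (𝐘 M).map (MulAut.conj k).toMonoidHom ≤ centralizer ((𝐘 M : Subgroup G) : Set G) :=
    le_centralizer_iff.mp (commutator_eq_bot_iff_le_centralizer.mp hcomm)
  refine c.mem_normalizer_of_fix hk (conj_eq_self_iff.mp (Subgroup.eq_of_le_of_card_ge ?_
    (card_map_of_injective (MulAut.conj k).injective).ge))
  intro v hv
  refine c.centralizer_inf ?_ (hC (map_mono inf_le_left hv))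
  have h3 := conj_eq_self_iff.mpr (c.L_le_normalizer (V := A ⊔ A.map (MulAut.conj x).toMonoidHom)
    (sup_le inf_le_right (c.A_map_le_U (c.hLH c.hx))) le_sup_left le_sup_right hk)
  exact h3.le (map_mono le_sup_left hv)

/-- Proper subgroups of `L` over `Y` normalize `Y`. -/
theorem le_normalizer_of_lt {K : Subgroup G} (hYK : (𝐘 M) ≤ K) (hK : K < L) :
    K ≤ normalizer ((𝐘 M : Subgroup G) : Set G) := by
  set Y := (𝐘 M) with hY
  set P := Cfsg.pCoreOf p K with hP
  have hYP : Y ≤ P := by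
    by_contra hn
    exact hK.ne (c.hmin K hK.le hYK hn)
  have hPL : P ≤ L := (pCoreOf_le K).trans hK.le
  set D := P ⊓ normalizer (Y : Set G) with hD
  have hstep : ∀ y ∈ P, y ∈ normalizer (D : Set G) → y ∈ D := by
    intro y hyP hyD
    have hYD : Y ≤ D := le_inf hYP le_normalizer
    have hD' := conj_eq_self_iff.mpr hyD
    refine ⟨hyP, c.mem_normalizer_of_mutual (hPL hyP) (((map_mono hYD).trans hD'.le).trans inf_le_right) ?_⟩
    exact (hYD.trans hD'.ge).trans ((map_mono inf_le_right).trans (le_normalizer_map _))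
  have hPN : P ≤ normalizer (Y : Set G) := by
    have hnil : Group.IsNilpotent P := (isPGroup_pCoreOf K).isNilpotent
    have htop : D.subgroupOf P = ⊤ := by
      by_contra hne'
      obtain ⟨y, hy, hyn⟩ := SetLike.exists_of_lt
        (Group.normalizerCondition_of_isNilpotent (D.subgroupOf P) (lt_top_iff_ne_top.mpr hne'))
      exact hyn (hstep y y.2 (normalizer_subgroupOf_map_le inf_le_left ⟨y, hy, rfl⟩))
    exact (subgroupOf_eq_top.mp htop).trans inf_le_right
  intro k hk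
  have hkP := conj_eq_self_iff.mpr (le_normalizer_pCoreOf (p := p) K hk)
  exact c.mem_normalizer_of_mutual (hK.le hk) (((map_mono hYP).trans hkP.le).trans hPN)
    ((hYP.trans hkP.ge).trans ((map_mono hPN).trans (le_normalizer_map _)))

/-- `L` is generated by `Y` and any conjugate different from `Y`. -/
theorem generate {h : G} (hh : h ∈ L) (hn : h ∉ normalizer ((𝐘 M : Subgroup G) : Set G)) :
    (𝐘 M) ⊔ (𝐘 M).map (MulAut.conj h).toMonoidHom = L := by
  set Y := (𝐘 M) with hY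
  have hle : ∀ g ∈ L, Y ⊔ Y.map (MulAut.conj g).toMonoidHom ≤ L := fun g hg =>
    sup_le c.hYL ((map_mono c.hYL).trans (conj_eq_self_iff.mpr (le_normalizer hg)).le)
  by_contra hne
  have h1 := c.le_normalizer_of_lt le_sup_left (lt_of_le_of_ne (hle h hh) hne)
  have hne' : Y ⊔ Y.map (MulAut.conj h⁻¹).toMonoidHom ≠ L := by
    intro e
    apply hne
    have := congrArg (Subgroup.map (MulAut.conj h).toMonoidHom) e
    rw [Subgroup.map_sup, conj_conj, mul_inv_cancel, conj_one, conj_eq_self_iff.mpr (le_normalizer hh),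
      sup_comm] at this
    exact this
  have h2 := c.le_normalizer_of_lt le_sup_left (lt_of_le_of_ne (hle _ (inv_mem hh)) hne')
  refine hn (c.mem_normalizer_of_mutual hh (le_sup_right.trans h1) ?_)
  have h3 := (map_mono (f := (MulAut.conj h).toMonoidHom) (le_sup_right.trans h2)).trans (le_normalizer_map _)
  rwa [conj_conj, mul_inv_cancel, conj_one] at h3

theorem not_le_normalizer : ¬ L ≤ normalizer ((𝐘 M : Subgroup G) : Set G) :=
  fun h => c.hYO (le_pCoreOf c.hYL h c.hyp)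

/-- `L` has characteristic `p`. -/
theorem charP : CharPOf p L := by
  intro l hl hco hc
  set U := Cfsg.pCoreOf p H with hU
  set A := (𝐘 M) ⊓ U with hA
  set A₁ := A ⊔ A.map (MulAut.conj x).toMonoidHom with hA₁
  have hA₁U : A₁ ≤ U := sup_le inf_le_right (c.A_map_le_U (c.hLH c.hx))
  have hA₁L : A₁ ≤ L := by
    have hAL : A ≤ L := inf_le_left.trans c.hYL
    exact sup_le hAL ((map_mono hAL).trans (conj_eq_self_iff.mpr (le_normalizer c.hx)).le)
  have hA₁P : A₁ ≤ Cfsg.pCoreOf p L := le_pCoreOf hA₁L (c.L_le_normalizer hA₁U le_sup_left le_sup_right)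
    ((isPGroup_pCoreOf H).to_le hA₁U)
  exact c.hH l (c.hLH hl) hco (mem_centralizer_of_triv ((isPGroup_pCoreOf H).to_le hA₁U) hco
    (c.L_le_triv hA₁U le_sup_left le_sup_right hl) (centralizer_le hA₁P hc))

/-- `Y ∩ O_p(L)` lies in `O_p(H)`. -/
theorem inf_pCoreOf_le : Cfsg.pCoreOf p L ⊓ (𝐘 M) ≤ Cfsg.pCoreOf p H := by
  set Y := (𝐘 M) with hY
  set U := Cfsg.pCoreOf p H with hU
  set A := Y ⊓ U with hA
  set C := centralizer (Y : Set G) with hC
  set U₀ := U ⊓ C with hU₀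
  set Ax := A.map (MulAut.conj x).toMonoidHom with hAx
  set Z := A ⊓ Ax with hZ
  set P := Cfsg.pCoreOf p L with hP
  have hxH := c.hLH c.hx
  have hZc : H ≤ centralizer (Z : Set G) := by
    conv_lhs => rw [← c.sup_eq]
    refine sup_le ?_ ((pCoreOf_le_centralizer M).trans (centralizer_le (inf_le_left.trans inf_le_left)))
    intro l hl
    refine mem_centralizer_iff.mpr fun z hz => (c.centralizes_L (c.A_le_C hz.1) ?_ l hl).symm
    obtain ⟨z₀, hz₀, rfl⟩ := hz.2
    refine mem_centralizer_iff.mpr ?_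
    rintro _ ⟨y, hy, rfl⟩
    rw [← map_mul, ← map_mul, mem_centralizer_iff.mp (c.A_le_C hz₀) y hy]
  set B := U₀ ⊔ Ax with hB
  have hBU : B ≤ U := sup_le inf_le_left (c.A_map_le_U hxH)
  have hAB : A ≤ B := (le_inf inf_le_right c.A_le_C).trans le_sup_left
  have hBn : H ≤ normalizer (B : Set G) := c.B_normal hBU le_sup_left le_sup_right
  have hHB : H ≤ triv U B := by
    conv_lhs => rw [← c.sup_eq]
    exact sup_le (c.L_le_triv hBU hAB le_sup_right)
      (le_triv (c.hc.hO.trans hBn) (c.comm_O_U.trans le_sup_left))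
  set J := triv B Z ⊓ H with hJ
  have hJn : H ≤ normalizer (J : Set G) := fun h hh => inf_normalizer_le_normalizer_inf
    ⟨le_normalizer_triv hBn (hZc.trans (centralizer_le_normalizer _)) hh, le_normalizer hh⟩
  have hJp : IsPGroup p J := CfsgLib.PCore.isPGroup_of_forall_coprime _ fun h hh hco =>
    c.hH h hh.2 hco (mem_centralizer_of_triv ((isPGroup_pCoreOf H).to_le hBU) hco (hHB hh.2)
      (mem_centralizer_of_triv ((isPGroup_pCoreOf H).to_le (inf_le_left.trans inf_le_right)) hco hh.1 (hZc hh.2)))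
  have hPY : P ≤ normalizer (Y : Set G) := by
    have hlt : P ⊔ Y < L := by
      refine lt_of_le_of_ne (sup_le (pCoreOf_le L) c.hYL) fun e => c.hYO ?_
      have hp : IsPGroup p ↥(Y ⊔ P) :=
        c.hyp.to_sup_of_normal_right' (isPGroup_pCoreOf L) (c.hYL.trans (le_normalizer_pCoreOf L))
      exact c.hYL.trans (le_pCoreOf le_rfl le_normalizer ((sup_comm Y P).trans e ▸ hp))
    exact le_sup_left.trans (c.le_normalizer_of_lt le_sup_right hlt)
  intro b hb
  refine le_pCoreOf inf_le_right hJn hJp ⟨⟨centralizer_le_normalizer _ (hZc (c.yH hb.2)), ?_⟩, c.yH hb.2⟩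
  intro v hv
  have hn : U₀ ≤ normalizer (Ax : Set G) := by
    rw [hAx, c.map_inf_U hxH]
    exact fun a ha => inf_normalizer_le_normalizer_inf ⟨c.U_le_normalizer hxH ha.1, le_normalizer ha.1⟩
  rw [← SetLike.mem_coe, coe_mul_of_left_le_normalizer_right _ _ hn] at hv
  obtain ⟨u, hu, a, ha, rfl⟩ := hv
  have hPx : P ≤ normalizer (Ax : Set G) := by
    rw [hAx, c.map_inf_U hxH]
    intro q hq
    refine inf_normalizer_le_normalizer_inf ⟨?_, le_normalizer_pCoreOf H (c.hLH (pCoreOf_le L hq))⟩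
    have h4 := (map_mono (f := (MulAut.conj x).toMonoidHom) hPY).trans (le_normalizer_map _)
    rw [conj_eq_self_iff.mpr (le_normalizer_pCoreOf L c.hx)] at h4
    exact h4 hq
  have h5 : ⁅b, a⁆ ∈ Z := by
    refine ⟨c.comm_Y_U_one (commutator_mem_commutator hb.2 (c.A_map_le_U hxH ha)), ?_⟩
    rw [commutatorElement_def]
    exact mul_mem ((mem_normalizer_iff.mp (hPx hb.1) a).mp ha) (Subgroup.inv_mem _ ha)
  have h6 : b * u = u * b := mem_centralizer_iff.mp hu.2 b hb.2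
  have h7 : ⁅b, u * a⁆ = ⁅b, a⁆ := by
    have h8 := mem_centralizer_iff.mp (hZc (pCoreOf_le H hu.1)) _ h5
    calc ⁅b, u * a⁆ = (b * u * b⁻¹ * u⁻¹) * (u * ⁅b, a⁆ * u⁻¹) := by simp only [commutatorElement_def]; group
      _ = (u * b * b⁻¹ * u⁻¹) * (⁅b, a⁆ * u * u⁻¹) := by rw [h6, h8]
      _ = _ := by group
  rw [h7]
  exact h5

end Conf

end CfsgLib.PReduced.Asym
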