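import Mathlib.GroupTheory.Index
import Mathlib.GroupTheory.Commutator.Basic
import Mathlib.GroupTheory.GroupAction.Quotient
import Mathlib.GroupTheory.OrderOfElement
import Mathlib.Data.Nat.GCD.Basic
import Mathlib.Data.ZMod.Basic
import Mathlib.Tactic.Group
import Mathlib.Tactic.IntervalCases

/-!
Averaging a vector fixed by a subgroup `T` over the cosets of `T` in `R`, for `R` normalizing an abelian subgroup `A`.
-/

set_option autoImplicit false

namespace CfsgLib.PReduced

open Subgroup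

variable {G : Type*} [Group G]

open scoped IsMulCommutative in
/-- The average `c` of `v` over `R / (R ⊓ T)` is centralized by `R` and by every element normalizing `R` and `R ⊓ T`
that centralizes `v`, and `v ^ [R : R ⊓ T]` differs from `c` by an element of `[A, R]`. -/
theorem average [Finite G] (A R T : Subgroup G) [IsMulCommutative A] (hR : R ≤ normalizer (A : Set G))
    {v : G} (hvA : v ∈ A) (hvT : ∀ t ∈ R ⊓ T, t * v * t⁻¹ = v) :
    ∃ c ∈ A, c ∈ centralizer (R : Set G) ∧ c * (v ^ T.relIndex R)⁻¹ ∈ ⁅A, R⁆ ∧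
      ∀ g ∈ normalizer (R : Set G) ⊓ normalizer ((R ⊓ T : Subgroup G) : Set G) ⊓ normalizer (A : Set G),
        g * v * g⁻¹ = v → g * c * g⁻¹ = c := by
  classical
  have hconj : ∀ r : R, (r : G) * v * (r : G)⁻¹ ∈ A := fun r => (mem_normalizer_iff.mp (hR r.2) v).mp hvA
  let f : R ⧸ T.subgroupOf R → A :=
    Quotient.lift (fun r : R => (⟨(r : G) * v * (r : G)⁻¹, hconj r⟩ : A)) fun a b h => by
      have hab : (a : G)⁻¹ * b ∈ R ⊓ T := mem_inf.mpr ⟨mul_mem (inv_mem a.2) b.2, (QuotientGroup.leftRel_apply (s := T.subgroupOf R)).mp h⟩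
      refine Subtype.ext ?_
      show (a : G) * v * (a : G)⁻¹ = (b : G) * v * (b : G)⁻¹
      calc (a : G) * v * (a : G)⁻¹ = (a : G) * (((a : G)⁻¹ * b) * v * ((a : G)⁻¹ * b)⁻¹) * (a : G)⁻¹ := by
            rw [hvT _ hab]
        _ = (b : G) * v * (b : G)⁻¹ := by group
  have hf : ∀ r : R, ((f r : A) : G) = (r : G) * v * (r : G)⁻¹ := fun r => rfl
  let : Fintype (R ⧸ T.subgroupOf R) := Fintype.ofFinite _
  refine ⟨((∏ q, f q : A) : G), (∏ q, f q).2, ?_, ?_, ?_⟩
  · rw [mem_centralizer_iff]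
    intro r hr
    let φ : A →* A :=
      { toFun := fun a => ⟨r * a * r⁻¹, (mem_normalizer_iff.mp (hR hr) _).mp a.2⟩
        map_one' := Subtype.ext (by simp)
        map_mul' := fun a b => Subtype.ext (by simp [mul_assoc]) }
    have h : φ (∏ q, f q) = ∏ q, f q := by
      rw [map_prod]
      refine Fintype.prod_equiv (MulAction.toPerm (⟨r, hr⟩ : R)) _ _ fun q => ?_
      induction q using QuotientGroup.induction_on with
      | H x =>
        refine Subtype.ext ?_
        show r * ((x : G) * v * (x : G)⁻¹) * r⁻¹ = (r * (x : G)) * v * (r * (x : G))⁻¹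
        group
    exact mul_inv_eq_iff_eq_mul.mp (congrArg Subtype.val h)
  · have h : ∏ q, f q * (⟨v, hvA⟩ : A)⁻¹ ∈ (⁅A, R⁆).subgroupOf A := by
      refine Subgroup.prod_mem _ fun q _ => ?_
      induction q using QuotientGroup.induction_on with
      | H x =>
        show (x : G) * v * (x : G)⁻¹ * v⁻¹ ∈ ⁅A, R⁆
        rw [commutator_comm]
        exact commutator_mem_commutator x.2 hvA
    rw [Finset.prod_mul_distrib, Finset.prod_const, Finset.card_univ, ← Nat.card_eq_fintype_card,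
      mem_subgroupOf] at h
    rwa [Subgroup.coe_mul, SubmonoidClass.coe_pow, Subgroup.coe_inv, inv_pow] at h
  · intro g hg hgv
    obtain ⟨hg1, hg2⟩ := mem_inf.mp hg
    obtain ⟨hgR, hgT⟩ := mem_inf.mp hg1
    let φ : A →* A :=
      { toFun := fun a => ⟨g * a * g⁻¹, (mem_normalizer_iff.mp hg2 _).mp a.2⟩
        map_one' := Subtype.ext (by simp)
        map_mul' := fun a b => Subtype.ext (by simp [mul_assoc]) }
    let ψ : R ⧸ T.subgroupOf R → R ⧸ T.subgroupOf R :=
      Quotient.map (fun r : R => (⟨g * r * g⁻¹, (mem_normalizer_iff.mp hgR _).mp r.2⟩ : R)) fun a b h => by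
        refine QuotientGroup.leftRel_apply.mpr ?_
        have hab : (a : G)⁻¹ * b ∈ R ⊓ T := mem_inf.mpr ⟨mul_mem (inv_mem a.2) b.2, (QuotientGroup.leftRel_apply (s := T.subgroupOf R)).mp h⟩
        have h2 := ((mem_normalizer_iff.mp hgT _).mp hab).2
        show (g * (a : G) * g⁻¹)⁻¹ * (g * (b : G) * g⁻¹) ∈ T
        simpa [mul_assoc] using h2
    have hψ : Function.Surjective ψ := by
      intro q
      induction q using QuotientGroup.induction_on with
      | H x =>
        refine ⟨QuotientGroup.mk (⟨g⁻¹ * x * g, by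
          simpa using (mem_normalizer_iff.mp (inv_mem hgR) _).mp x.2⟩ : R), ?_⟩
        show QuotientGroup.mk (⟨g * (g⁻¹ * x * g) * g⁻¹, _⟩ : R) = _
        congr 1
        exact Subtype.ext (by group)
    have h : φ (∏ q, f q) = ∏ q, f q := by
      rw [map_prod]
      refine Fintype.prod_bijective ψ (Finite.injective_iff_surjective.mpr hψ |> fun hi => ⟨hi, hψ⟩) _ _ fun q => ?_
      induction q using QuotientGroup.induction_on with
      | H x =>
        refine Subtype.ext ?_
        show g * ((x : G) * v * (x : G)⁻¹) * g⁻¹ = (g * x * g⁻¹) * v * (g * x * g⁻¹)⁻¹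
        calc g * ((x : G) * v * (x : G)⁻¹) * g⁻¹ = g * x * g⁻¹ * (g * v * g⁻¹) * (g * x * g⁻¹)⁻¹ := by group
          _ = _ := by rw [hgv]
    exact congrArg Subtype.val h

open scoped IsMulCommutative in
/-- For `A` of exponent `p` and index `[R : R ⊓ T]` prime to `p`, `v` is `c * d` with `c` fixed as in `average` and
`d ∈ [A, R]`. -/
theorem average_split [Finite G] {p : ℕ} (A R T : Subgroup G) [IsMulCommutative A] (hexp : ∀ a ∈ A, a ^ p = 1)
    (hR : R ≤ normalizer (A : Set G)) (hidx : (T.relIndex R).Coprime p) {v : G} (hvA : v ∈ A)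
    (hvT : ∀ t ∈ R ⊓ T, t * v * t⁻¹ = v) :
    ∃ c ∈ A, ∃ d ∈ ⁅A, R⁆, v = c * d ∧ c ∈ centralizer (R : Set G) ∧
      ∀ g ∈ normalizer (R : Set G) ⊓ normalizer ((R ⊓ T : Subgroup G) : Set G) ⊓ normalizer (A : Set G),
        g * v * g⁻¹ = v → g * c * g⁻¹ = c := by
  rcases lt_or_ge 1 p with hp | hp
  · obtain ⟨m, -, hm⟩ := Nat.exists_mul_mod_eq_one_of_coprime hidx hp
    obtain ⟨c, hcA, hcR, hd, hg⟩ := average A R T hR hvA hvT
    have hvm : (v ^ T.relIndex R) ^ m = v := by
      rw [← pow_mul, ← Nat.div_add_mod (T.relIndex R * m) p, hm, pow_add, pow_mul, hexp v hvA, one_pow, one_mul,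
        pow_one]
    have hd' : c⁻¹ * v ^ T.relIndex R ∈ ⁅A, R⁆ := by
      have e : c⁻¹ * v ^ T.relIndex R = (c * (v ^ T.relIndex R)⁻¹)⁻¹ := by
        rw [mul_inv_rev, inv_inv]
        exact congrArg Subtype.val (mul_comm (⟨c⁻¹, inv_mem hcA⟩ : A) ⟨_, pow_mem hvA _⟩)
      exact e ▸ inv_mem hd
    refine ⟨c ^ m, pow_mem hcA m, (c⁻¹ * v ^ T.relIndex R) ^ m, pow_mem hd' m, ?_, pow_mem hcR m, fun g hg' hgv => ?_⟩
    · have hcomm : Commute c (c⁻¹ * v ^ T.relIndex R) :=
        congrArg Subtype.val (mul_comm (⟨c, hcA⟩ : A) ⟨_, mul_mem (inv_mem hcA) (pow_mem hvA _)⟩)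
      rw [← hcomm.mul_pow, mul_inv_cancel_left, hvm]
    · rw [← conj_pow, hg g hg' hgv]
  · refine ⟨v, hvA, 1, one_mem _, (mul_one v).symm, ?_, fun g _ h => h⟩
    interval_cases p
    · rw [Nat.coprime_zero_right, relIndex_eq_one] at hidx
      rw [mem_centralizer_iff]
      exact fun r hr => mul_inv_eq_iff_eq_mul.mp (hvT r ⟨hr, hidx hr⟩)
    · have : v = 1 := by simpa using hexp v hvA
      rw [this]
      exact one_mem _

end CfsgLib.PReduced
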