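import Cfsg.Agent.PReduced.WeaklyClosed
import Cfsg.Agent.PReduced.CharP

/-!
Consequences of the existence of a large p-subgroup.
-/

set_option autoImplicit false

namespace CfsgLib.PReduced

open Subgroup

variable {G : Type*} [Group G] {p : ℕ}

/-- A p-element of order prime to `p` is trivial. -/
theorem eq_one_of_mem_isPGroup [Fact p.Prime] {P : Subgroup G} (hP : IsPGroup p P) {x : G} (hx : x ∈ P)
    (hco : (orderOf x).Coprime p) : x = 1 := by
  obtain ⟨k, hk⟩ := IsPGroup.iff_orderOf.mp hP ⟨x, hx⟩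
  rw [orderOf_mk] at hk
  rw [hk] at hco
  rcases k with _ | k
  · exact orderOf_eq_one_iff.mp (by simpa using hk)
  · exact absurd ((Nat.coprime_pow_left_iff (Nat.succ_pos k) p p).mp hco)
      (fun e => (Fact.out : p.Prime).ne_one ((Nat.coprime_self p).mp e))

theorem map_centralizer_conj (X : Subgroup G) (g : G) :
    centralizer ((X.map (MulAut.conj g).toMonoidHom : Subgroup G) : Set G) =
      (centralizer (X : Set G)).map (MulAut.conj g).toMonoidHom := by
  ext x
  rw [CfsgLib.Subnormal.mem_conj, mem_centralizer_iff, mem_centralizer_iff]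
  constructor
  · intro h y hy
    have h1 := h (g * y * g⁻¹) ⟨y, hy, rfl⟩
    calc y * (g⁻¹ * x * g) = g⁻¹ * (g * y * g⁻¹ * x) * g := by group
      _ = g⁻¹ * (x * (g * y * g⁻¹)) * g := by rw [h1]
      _ = _ := by group
  · rintro h _ ⟨y, hy, rfl⟩
    show g * y * g⁻¹ * x = x * (g * y * g⁻¹)
    calc g * y * g⁻¹ * x = g * (y * (g⁻¹ * x * g)) * g⁻¹ := by group
      _ = g * (g⁻¹ * x * g * y) * g⁻¹ := by rw [h y hy]
      _ = _ := by group

/-- Conjugates of large subgroups are large. -/
theorem isLarge_map_conj {Q : Subgroup G} (hL : Cfsg.IsLarge Q) (g : G) :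
    Cfsg.IsLarge (Q.map (MulAut.conj g).toMonoidHom) := by
  refine ⟨map_centralizer_conj Q g ▸ map_mono hL.1, fun U hU hU1 x hx => ?_⟩
  rw [map_centralizer_conj] at hU
  have h1 := CfsgLib.Subnormal.conj_conj U g g⁻¹
  rw [mul_inv_cancel, CfsgLib.Subnormal.conj_one] at h1
  have hU' : U.map (MulAut.conj g⁻¹).toMonoidHom ≤ centralizer (Q : Set G) := CfsgLib.Subnormal.le_conj_iff.mp hU
  have h2 := hL.2 _ hU' (fun e => hU1 (by rw [← h1, e, Subgroup.map_bot]))
    (le_normalizer_map (MulAut.conj g⁻¹).toMonoidHom ⟨x, hx, rfl⟩)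
  refine le_normalizer_map (MulAut.conj g).toMonoidHom ⟨_, h2, ?_⟩
  simp [mul_assoc]

variable [Finite G] [Fact p.Prime]

/-- The centralizer of a nontrivial p-group normalized by `Q` normalizes `Q`. -/
theorem centralizer_le_normalizer_of_large {Q P : Subgroup G} (hQ : IsPGroup p Q) (hL : Cfsg.IsLarge Q)
    (hP : IsPGroup p P) (hQP : Q ≤ normalizer (P : Set G)) (hne : P ≠ ⊥) :
    centralizer (P : Set G) ≤ normalizer (Q : Set G) := by
  obtain ⟨z, hzP, hzp, hzc⟩ := exists_central_of_normalized (Q ⊔ P) (hQ.to_sup_of_normal_right' hP hQP)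
    le_sup_right (sup_le hQP le_normalizer) hne
  have hz1 : zpowers z ≠ ⊥ := fun e =>
    (Fact.out : p.Prime).ne_one (by rw [← hzp, zpowers_eq_bot.mp e, orderOf_one])
  have h1 : zpowers z ≤ centralizer (Q : Set G) :=
    zpowers_le.mpr (mem_centralizer_iff.mpr fun q hq => hzc q (mem_sup_left hq))
  refine le_trans ?_ (hL.2 _ h1 hz1)
  exact (centralizer_le (zpowers_le.mpr hzP)).trans (centralizer_le_normalizer _)

/-- `C(O_p(L))` is a p-group for `L` containing a large subgroup. -/
theorem isPGroup_centralizer_pCoreOf_of_large {Q L : Subgroup G} (hQ : IsPGroup p Q) (hL : Cfsg.IsLarge Q)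
    (hQL : Q ≤ L) (hne : Cfsg.pCoreOf p L ≠ ⊥) : IsPGroup p ↥(centralizer (Cfsg.pCoreOf p L : Set G)) := by
  set P := Cfsg.pCoreOf p L with hP
  set C := centralizer (P : Set G) with hC
  have hQP : Q ≤ normalizer (P : Set G) := hQL.trans (le_normalizer_pCoreOf L)
  have hCQ : C ≤ normalizer (Q : Set G) :=
    centralizer_le_normalizer_of_large hQ hL (isPGroup_pCoreOf L) hQP hne
  have hLC : L ≤ normalizer (C : Set G) := (le_normalizer_pCoreOf L).trans (normalizer_le_normalizer_centralizer _)
  set O := Cfsg.pCoreOf p C with hO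
  have hD : Q ⊓ C ≤ P := by
    have h1 : Q ⊓ C ≤ O := le_pCoreOf inf_le_right
      (fun c hc => inf_normalizer_le_normalizer_inf ⟨hCQ hc, le_normalizer hc⟩) (hQ.to_le inf_le_left)
    refine (le_inf (inf_le_left.trans hQL) h1).trans (le_pCoreOf inf_le_left ?_ ((isPGroup_pCoreOf C).to_le inf_le_right))
    exact fun l hl => inf_normalizer_le_normalizer_inf ⟨le_normalizer hl, normalizer_le_normalizer_pCoreOf C (hLC hl)⟩
  refine CfsgLib.PCore.isPGroup_of_forall_coprime C fun x hx hco => ?_
  refine eq_one_of_mem_isPGroup hQ (hL.1 (zpowers_le.mp (CfsgLib.PCore.le_centralizer_of_stabilizes (Q := Q ⊓ C) ?_ ?_ ?_))) hco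
  · obtain ⟨k, hk⟩ := IsPGroup.iff_card.mp (hQ.to_le (inf_le_left : Q ⊓ C ≤ Q))
    rw [Nat.card_zpowers, hk]
    exact hco.pow_right k
  · refine le_inf (CfsgLib.PCore.commutator_le_of_le_normalizer ((zpowers_le.mpr hx).trans hCQ)) ?_
    rw [commutator_comm]
    exact (commutator_mono (zpowers_le.mpr hx) le_rfl).trans
      (CfsgLib.PCore.commutator_le_of_le_normalizer (hQL.trans hLC))
  · refine le_trans ?_ (centralizer_le (zpowers_le.mpr hx : zpowers x ≤ C))
    refine le_trans ?_ (le_centralizer_iff.mp (le_refl C))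
    refine le_trans ?_ hD
    refine le_inf (CfsgLib.PCore.commutator_le_of_le_normalizer ((zpowers_le.mpr hx).trans hCQ)) ?_
    rw [commutator_comm]
    exact (commutator_mono (zpowers_le.mpr hx) le_rfl).trans
      (CfsgLib.PCore.commutator_le_of_le_normalizer (hQL.trans hLC))

/-- Subgroups with p-group centralizer of their p-core have characteristic `p`. -/
theorem charPOf_of_isPGroup_centralizer {L : Subgroup G} (h : IsPGroup p ↥(centralizer (Cfsg.pCoreOf p L : Set G))) :
    CharPOf p L := fun _ _ hco hc => eq_one_of_mem_isPGroup h hc hco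

/-- A group of characteristic `p` in the sense of `CharPOf`. -/
theorem charPOf_top (h : centralizer (Cfsg.pCore p G : Set G) ≤ Cfsg.pCore p G) : CharPOf p (⊤ : Subgroup G) := by
  intro x _ hco hc
  have hn : (Cfsg.pCore p G).Normal := by
    haveI := CfsgLib.PCore.pCore_characteristic p G
    infer_instance
  refine eq_one_of_mem_isPGroup (isPGroup_pCore p G) (h (centralizer_le ?_ hc)) hco
  exact le_pCoreOf le_top (by rw [normalizer_eq_top]) (isPGroup_pCore p G)

/-- Characteristic `p` passes from `C(A)` to `C(B)` for p-groups `A ≤ B`. -/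
theorem CharPOf.centralizer_mono {A B : Subgroup G} (hAB : A ≤ B) (hB : IsPGroup p B)
    (h : CharPOf p (centralizer (A : Set G))) : CharPOf p (centralizer (B : Set G)) := by
  induction hn : Nat.card B - Nat.card A using Nat.strong_induction_on generalizing A with
  | _ n ih =>
    by_cases he : A = B
    · subst he; exact h
    set A₁ := B ⊓ normalizer (A : Set G) with hA₁
    have hAA₁ : A ≤ A₁ := le_inf hAB le_normalizer
    have hne : A₁ ≠ A := by
      intro e
      haveI : Group.IsNilpotent B := hB.isNilpotent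
      have hlt : A.subgroupOf B < ⊤ := lt_top_iff_ne_top.mpr fun t => he (le_antisymm hAB (subgroupOf_eq_top.mp t))
      refine (Group.normalizerCondition_of_isNilpotent _ hlt).not_ge fun x hx => ?_
      show (x : G) ∈ A
      rw [← e]
      exact mem_inf.mpr ⟨x.2, CfsgLib.Subnormal.normalizer_subgroupOf_map_le hAB ⟨x, hx, rfl⟩⟩
    have hcard : Nat.card A < Nat.card A₁ := lt_of_le_of_ne (card_le_of_le hAA₁)
      fun e => hne (eq_of_le_of_card_ge hAA₁ e.ge).symm
    have hA₁B : Nat.card A₁ ≤ Nat.card B := card_le_of_le inf_le_left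
    refine ih (Nat.card B - Nat.card A₁) (by omega) inf_le_left ?_ rfl
    have h1 := (CharPOf.inf_normalizer (H := (⊤ : Subgroup G)) (by rwa [top_inf_eq]) le_top
      (hB.to_le hAB)).inf_centralizer (P := A₁) (le_inf le_top inf_le_right) (hB.to_le inf_le_left)
    rwa [top_inf_eq, inf_eq_right.mpr ((centralizer_le hAA₁).trans (centralizer_le_normalizer _))] at h1

end CfsgLib.PReduced
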