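import Cfsg.Agent.PReduced.CharP
import Cfsg.Agent.PReduced.Large
import Cfsg.Agent.S2824
import Cfsg.Agent.S2822
import Mathlib

/-!
Existence of subgroups with the basic property over a given member of the characteristic-p family.
-/

set_option autoImplicit false

namespace CfsgLib.PReduced

open Subgroup

variable {H : Type*} [Group H] [Finite H] {p : ℕ} [Fact p.Prime]

/-- Overgroups of a Sylow subgroup with nontrivial p-core belong to the characteristic-p family. -/
theorem mem_charPSubgroups (hH : Cfsg.IsOfParabolicCharacteristic p H) (T : Sylow p H) {X : Subgroup H}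
    (hTX : (T : Subgroup H) ≤ X) (hne : Cfsg.pCoreOf p X ≠ ⊥) : X ∈ Cfsg.charPSubgroups p H := by
  refine ⟨fun e => hne (by rw [Cfsg.pCoreOf, e, Subgroup.map_bot]), ?_⟩
  show centralizer ((Cfsg.pCoreOf p X : Subgroup H) : Set H) ≤ Cfsg.pCoreOf p X
  set P := Cfsg.pCoreOf p X with hP
  set N := normalizer (P : Set H) with hN
  have hXN : X ≤ N := le_normalizer_pCoreOf X
  have hNc := hH P (isPGroup_pCoreOf X) hne ⟨T, hTX.trans hXN⟩
  intro x hx
  have hxN : x ∈ N := centralizer_le_normalizer _ hx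
  have hle : Cfsg.pCoreOf p N ≤ P := by
    refine le_pCoreOf ((pCoreOf_le_sylow T (hTX.trans hXN)).trans hTX) ?_ (isPGroup_pCoreOf N)
    exact hXN.trans (le_normalizer_pCoreOf N)
  have hge : P ≤ Cfsg.pCoreOf p N := le_pCoreOf le_normalizer le_rfl (isPGroup_pCoreOf X)
  exact hle ⟨⟨x, hxN⟩, hNc (mem_centralizer_iff.mpr fun q hq =>
    Subtype.ext (mem_centralizer_iff.mp hx _ (hle ⟨q, hq, rfl⟩))), rfl⟩

/-- Members of the family have characteristic `p`. -/
theorem charP_of_mem {X : Subgroup H} (hX : X ∈ Cfsg.charPSubgroups p H) :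
    centralizer (Cfsg.pCore p ↥X : Set ↥X) ≤ Cfsg.pCore p ↥X := by
  intro x hx
  have h : (x : H) ∈ Cfsg.pCoreOf p X := hX.2 (mem_centralizer_iff.mpr (by
    rintro _ ⟨q, hq, rfl⟩
    exact congrArg Subtype.val (mem_centralizer_iff.mp hx q hq)))
  obtain ⟨y, hy, he⟩ := h
  rwa [← Subtype.ext (a1 := y) (a2 := x) he]

/-- Existence of a subgroup with the basic property. -/
theorem exists_basic (hH : Cfsg.IsOfParabolicCharacteristic p H) (T : Sylow p H) (L : Subgroup H)
    (hTL : (T : Subgroup H) ≤ L) (hL : L ∈ Cfsg.charPSubgroups p H) :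
    ∃ M Ls : Subgroup H, (T : Subgroup H) ≤ M ∧ Cfsg.IsInFrakM p M ∧ (T : Subgroup H) ≤ Ls ∧ Ls ≤ M ∧
      Ls ∈ Cfsg.charPSubgroups p H ∧ Cfsg.largestPReducedOf p L = Cfsg.largestPReducedOf p Ls ∧
      Cfsg.largestPReducedOf p L ≤ Cfsg.largestPReducedOf p M ∧
      L ⊔ centralizer ((Cfsg.largestPReducedOf p L : Subgroup H) : Set H) =
        Ls ⊔ centralizer ((Cfsg.largestPReducedOf p L : Subgroup H) : Set H) := by
  classical
  -- `Y_X` is nontrivial
  have hTne : (T : Subgroup H) ≠ ⊥ := by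
    intro e
    refine hL.1 ((map_eq_bot_iff_of_injective _ L.subtype_injective).mp ?_)
    exact le_bot_iff.mp ((pCoreOf_le_sylow T hTL).trans e.le)
  obtain ⟨z, hzT, hzp, hzc⟩ := exists_central_of_normalized (T : Subgroup H) T.isPGroup' le_rfl le_normalizer hTne
  have hzY : ∀ X : Subgroup H, (T : Subgroup H) ≤ X → X ∈ Cfsg.charPSubgroups p H →
      z ∈ Cfsg.largestPReducedOf p X := by
    intro X hTX hX
    obtain ⟨-, -, -, h1, h2, -⟩ := Cfsg.Agent.S2821.result T X hTX (charP_of_mem hX) _ rfl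
    exact h2 (h1 (subset_closure ⟨⟨hzT, mem_centralizer_iff.mpr hzc⟩, hzp ▸ pow_orderOf_eq_one z⟩))
  have hz1 : z ≠ 1 := fun e => (Fact.out : p.Prime).ne_one (by rw [← hzp, e, orderOf_one])
  -- `Y` passes to overgroups
  have hmono : ∀ R X : Subgroup H, (T : Subgroup H) ≤ R → R ≤ X → X ∈ Cfsg.charPSubgroups p H →
      Cfsg.largestPReducedOf p R ≤ Cfsg.largestPReducedOf p X := by
    intro R X hTR hRX hX
    have hXchar := charP_of_mem hX
    let e : ↥(R.subgroupOf X) ≃* ↥R := subgroupOfEquivOfLe hRX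
    set V := (Cfsg.largestPReduced p ↥R).comap e.toMonoidHom with hV
    have hVr : Cfsg.IsPReducedNormal p V := by
      obtain ⟨hn, he, hD⟩ := isPReducedNormal_iff.mp (isPReducedNormal_largestPReduced p ↥R)
      haveI := hn
      refine isPReducedNormal_iff.mpr ⟨inferInstance, ⟨⟨⟨fun a b => ?_⟩⟩, fun a ha => ?_⟩, fun D hDn hpm d hd => ?_⟩
      · exact Subtype.ext (e.injective (by
          rw [Subgroup.coe_mul, Subgroup.coe_mul, map_mul, map_mul]
          exact congrArg Subtype.val (he.1.is_comm.comm (⟨e a, a.2⟩ : Cfsg.largestPReduced p ↥R) ⟨e b, b.2⟩)))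
      · exact e.injective (by rw [map_pow, map_one]; exact he.2 _ ha)
      · haveI : (D.map e.toMonoidHom).Normal := hDn.map _ e.surjective
        have h := hD (D.map e.toMonoidHom) inferInstance (by
          rintro _ ⟨a, ha, rfl⟩
          obtain ⟨k, hk⟩ := hpm a ha
          refine ⟨k, mem_centralizer_iff.mpr fun v hv => ?_⟩
          have h1 := congrArg e.toMonoidHom (mem_centralizer_iff.mp hk (e.symm v) (show e (e.symm v) ∈ Cfsg.largestPReduced p ↥R by
            rw [MulEquiv.apply_symm_apply]; exact hv))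
          simpa using h1) (mem_map_of_mem _ hd)
        refine mem_centralizer_iff.mpr fun v hv => e.injective ?_
        rw [map_mul, map_mul]
        exact mem_centralizer_iff.mp h _ hv
    have hle := le_largestPReduced (isPReducedNormal_normalClosure hXchar (T.subtype (hTR.trans hRX)) (R.subgroupOf X)
      (fun x hx => hTR hx) V hVr)
    rintro _ ⟨y, hy, rfl⟩
    refine ⟨⟨y, hRX y.2⟩, hle (subset_normalClosure ⟨e.symm y, ?_, rfl⟩), rfl⟩
    show e (e.symm y) ∈ Cfsg.largestPReduced p ↥R
    rw [MulEquiv.apply_symm_apply]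
    exact hy
  -- products with centralizers
  set Y := Cfsg.largestPReducedOf p L with hY
  set C := centralizer (Y : Set H) with hC
  set L1 := L ⊔ C with hL1
  have hL1Y : L1 ≤ normalizer (Y : Set H) := sup_le (le_normalizer_largestPReducedOf L) (centralizer_le_normalizer _)
  have hpne : ∀ (V : Subgroup H) (R : Subgroup H), V ≤ R → R ≤ normalizer (V : Set H) → IsPGroup p V → z ∈ V →
      Cfsg.pCoreOf p R ≠ ⊥ := fun V R h1 h2 h3 h4 e => hz1 (mem_bot.mp (e ▸ le_pCoreOf h1 h2 h3 h4))
  have hYel := isElementaryAbelian_largestPReducedOf (p := p) L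
  have hL1m : L1 ∈ Cfsg.charPSubgroups p H := mem_charPSubgroups hH T (hTL.trans le_sup_left)
    (hpne Y L1 ((largestPReducedOf_le L).trans le_sup_left) hL1Y (isPGroup_of_isElementaryAbelian hYel) (hzY L hTL hL))
  -- maximal members
  have hmax : ∀ R ∈ Cfsg.charPSubgroups p H, ∃ X ∈ Cfsg.maxCharPSubgroups p H, R ≤ X := by
    intro R hR
    obtain ⟨X, ⟨hX, hRX⟩, hmax⟩ := (Set.toFinite {X | X ∈ Cfsg.charPSubgroups p H ∧ R ≤ X}).exists_maximal
      ⟨R, hR, le_rfl⟩
    exact ⟨X, ⟨hX, fun A hA hXA => le_antisymm (hmax (y := A) ⟨hA, hRX.trans hXA⟩ hXA) hXA⟩, hRX⟩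
  let S : Set (Subgroup H) := {X | X ∈ Cfsg.maxCharPSubgroups p H ∧ (T : Subgroup H) ≤ X ∧
    Y ≤ Cfsg.largestPReducedOf p X ∧ L ≤ (X ⊓ L1) ⊔ C}
  obtain ⟨X0, hX0, hL1X0⟩ := hmax L1 hL1m
  have hX0S : X0 ∈ S := ⟨hX0, hTL.trans (le_sup_left.trans hL1X0),
    hmono L X0 hTL (le_sup_left.trans hL1X0) hX0.1, fun l hl => mem_sup_left ⟨hL1X0 (mem_sup_left hl), mem_sup_left hl⟩⟩
  obtain ⟨X, ⟨hXm, hTX, hYX, hLX⟩, hXmax⟩ :=
    (Set.toFinite S).exists_maximalFor (fun X => Nat.card (Cfsg.largestPReducedOf p X)) S ⟨X0, hX0S⟩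
  set YX := Cfsg.largestPReducedOf p X with hYXdef
  set CX := centralizer (YX : Set H) with hCX
  have hXY : X ≤ normalizer (YX : Set H) := le_normalizer_largestPReducedOf X
  have hXCX : X ≤ normalizer (CX : Set H) := hXY.trans (normalizer_le_normalizer_centralizer YX)
  have hYXel := isElementaryAbelian_largestPReducedOf (p := p) X
  have hCXX : CX ≤ X := by
    have hm : X ⊔ CX ∈ Cfsg.charPSubgroups p H := mem_charPSubgroups hH T (hTX.trans le_sup_left)
      (hpne YX _ ((largestPReducedOf_le X).trans le_sup_left) (sup_le hXY (centralizer_le_normalizer _))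
        (isPGroup_of_isElementaryAbelian hYXel) (hzY X hTX hXm.1))
    exact (le_sup_right : CX ≤ X ⊔ CX).trans (hXm.2 _ hm le_sup_left).le
  -- the Sylow subgroup of the centralizer and a minimal supplement
  set T1 := (T : Subgroup H) ⊓ CX with hT1
  have hM0 : (T : Subgroup H) ≤ X ⊓ normalizer (T1 : Set H) ∧ X ⊓ normalizer (T1 : Set H) ⊔ CX = X := by
    refine ⟨le_inf hTX fun t ht => inf_normalizer_le_normalizer_inf ⟨le_normalizer ht, hXCX (hTX ht)⟩, ?_⟩
    refine le_antisymm (sup_le inf_le_left hCXX) fun x hx => ?_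
    obtain ⟨n, hn, c, hc, rfl⟩ := Cfsg.Agent.S2824.frattini_arg T X CX hTX hXCX hx
    exact mul_mem (mem_sup_left hn) (mem_sup_right hc.2)
  obtain ⟨M, ⟨hTM, hMN, hMX⟩, hMmin⟩ := (Set.toFinite {R : Subgroup H | (T : Subgroup H) ≤ R ∧
      R ≤ X ⊓ normalizer (T1 : Set H) ∧ R ⊔ CX = X}).exists_minimal
    ⟨X ⊓ normalizer (T1 : Set H), hM0.1, le_rfl, hM0.2⟩
  have hMleX : M ≤ X := hMN.trans inf_le_left
  have hT1n : M ≤ normalizer (T1 : Set H) := hMN.trans inf_le_right
  have hMm : M ∈ Cfsg.charPSubgroups p H := by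
    refine mem_charPSubgroups hH T hTM (hpne YX M ?_ (hMleX.trans hXY) (isPGroup_of_isElementaryAbelian hYXel)
      (hzY X hTX hXm.1))
    exact ((largestPReducedOf_le_pCoreOf X).trans (pCoreOf_le_sylow T hTX)).trans hTM
  have hYM : Cfsg.largestPReducedOf p M = YX := by
    have h := (Cfsg.Agent.S2824.result T X M hTX hTM (charP_of_mem hXm.1) (charP_of_mem hMm) T1 rfl
      (by rw [hMX]; exact (sup_eq_left.mpr hCXX).symm) (M ⊓ normalizer (T1 : Set H)) rfl).1
    rwa [inf_eq_left.mpr hT1n] at h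
  have hMCX : M ≤ normalizer (CX : Set H) := hMleX.trans hXCX
  have huniq : ∀ X' ∈ Cfsg.maxCharPSubgroups p H, M ≤ X' → X' = X := by
    intro X' hX' hMX'
    have hle : YX ≤ Cfsg.largestPReducedOf p X' := hYM ▸ hmono M X' hTM hMX' hX'.1
    have hX'S : X' ∈ S := by
      refine ⟨hX', hTM.trans hMX', hYX.trans hle, hLX.trans (sup_le ?_ le_sup_right)⟩
      intro x hx
      have hxM : x ∈ M ⊔ CX := hMX.symm ▸ hx.1
      rw [← SetLike.mem_coe, Subgroup.coe_mul_of_left_le_normalizer_right _ _ hMCX] at hxM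
      obtain ⟨m, hm, c, hc, rfl⟩ := hxM
      have hcC : c ∈ C := centralizer_le hYX hc
      exact mul_mem (mem_sup_left ⟨hMX' hm, by simpa using L1.mul_mem hx.2 (L1.inv_mem (mem_sup_right hcC : c ∈ L1))⟩)
        (mem_sup_right hcC)
    have heq : Cfsg.largestPReducedOf p X' = YX := by
      have hc : Nat.card (Cfsg.largestPReducedOf p X') ≤ Nat.card YX := by
        by_contra hlt
        exact absurd (hXmax hX'S (le_of_not_ge hlt)) hlt
      exact (Subgroup.eq_of_le_of_card_ge hle hc).symm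
    have hCX' : CX ≤ X' := by
      have hm : X' ⊔ CX ∈ Cfsg.charPSubgroups p H := mem_charPSubgroups hH T ((hTM.trans hMX').trans le_sup_left)
        (hpne YX _ ((heq ▸ largestPReducedOf_le X').trans le_sup_left)
          (sup_le (heq ▸ le_normalizer_largestPReducedOf X') (centralizer_le_normalizer _))
          (isPGroup_of_isElementaryAbelian hYXel) (hzY X hTX hXm.1))
      exact (le_sup_right : CX ≤ X' ⊔ CX).trans (hX'.2 _ hm le_sup_left).le
    exact hXm.2 X' hX'.1 (hMX ▸ sup_le hMX' hCX')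
  obtain ⟨P, hP⟩ := exists_sylow_inf_of_le T hTM (inf_le_left : M ⊓ CX ≤ M)
    (fun m hm => inf_normalizer_le_normalizer_inf ⟨le_normalizer hm, hMCX hm⟩)
  have hTeq : (T : Subgroup H) ⊓ (M ⊓ CX) = T1 := by rw [← inf_assoc, inf_eq_left.mpr hTM]
  rw [hTeq] at hP
  have hMfrak : Cfsg.IsInFrakM p M := by
    refine ⟨hMm, hYM.symm ▸ hMX.symm ▸ hXm, fun X' hX' hMX' => ?_, ?_, ?_, ?_⟩
    · rw [hYM]
      exact (huniq X' hX' hMX').trans hMX.symm
    · conv_rhs => rw [hYM]
      rw [hYM, ← hCX, hMX]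
    · rw [hYM, ← hCX]
      haveI hPn : (P : Subgroup ↥(M ⊓ CX)).Normal := by
        rw [hP]
        exact normal_subgroupOf_of_le_normalizer (inf_le_left.trans hT1n)
      intro P'
      obtain ⟨g, rfl⟩ := MulAction.exists_smul_eq ↥(M ⊓ CX) P P'
      rw [Sylow.smul_eq_of_normal (h := hPn)]
      exact hPn
    · rw [hYM, ← hCX]
      rw [frattini, Order.radical]
      refine le_iInf₂ fun K hK => ?_
      by_contra hle
      set π := QuotientGroup.mk' (Cfsg.pCore p ↥M) with hπ
      set C' := (M ⊓ CX).subgroupOf M with hC'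
      set K' := K.comap π with hK'
      haveI : C'.Normal := normal_subgroupOf_of_le_normalizer fun m hm =>
        inf_normalizer_le_normalizer_inf ⟨le_normalizer hm, hMCX hm⟩
      have hK'top : K' ⊔ C' = ⊤ := by
        have h1 : K ⊔ C'.map π = ⊤ :=
          hK.2 _ (lt_of_le_of_ne le_sup_left fun e => hle (le_sup_right.trans e.ge))
        have h2 : (K' ⊔ C').map π = ⊤ := by
          rw [Subgroup.map_sup, hK', map_comap_eq_self_of_surjective (QuotientGroup.mk'_surjective _), h1]
        have h3 := congrArg (Subgroup.comap π) h2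
        rw [comap_map_eq, comap_top, QuotientGroup.ker_mk', sup_comm K' C', sup_assoc,
          sup_eq_left.mpr (show Cfsg.pCore p ↥M ≤ K' from fun x hx => by
            show π x ∈ K
            rw [show π x = 1 from (QuotientGroup.eq_one_iff x).mpr hx]
            exact K.one_mem)] at h3
        rwa [sup_comm]
      have hT1K : T1.subgroupOf M ≤ K' := by
        intro x hx
        show π x ∈ K
        rw [show π x = 1 from (QuotientGroup.eq_one_iff x).mpr
          (le_pCore (normal_subgroupOf_of_le_normalizer hT1n)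
            ((T.isPGroup'.to_le inf_le_left).of_equiv
              (subgroupOfEquivOfLe (inf_le_left.trans hTM : T1 ≤ M)).symm) hx)]
        exact K.one_mem
      have hidx : K'.index = K'.relIndex C' := by
        have h1 : C'.relIndex K' = C'.index := by
          have := relIndex_sup_right (H := K') (K := C')
          rw [hK'top, relIndex_top_right] at this
          exact this.symm
        have e1 := K'.card_mul_index
        have e2 := C'.card_mul_index
        have e3 := (C'.subgroupOf K').card_mul_index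
        have e4 := (K'.subgroupOf C').card_mul_index
        rw [← relIndex] at e3 e4
        rw [h1, ← inf_subgroupOf_right, Nat.card_congr (subgroupOfEquivOfLe inf_le_right).toEquiv] at e3
        rw [← inf_subgroupOf_right, Nat.card_congr (subgroupOfEquivOfLe inf_le_right).toEquiv, inf_comm] at e4
        have e5 : Nat.card ↥K' * K'.index = Nat.card ↥K' * K'.relIndex C' := by
          calc Nat.card ↥K' * K'.index = Nat.card ↥C' * C'.index := e1.trans e2.symm
            _ = Nat.card ↥(C' ⊓ K') * K'.relIndex C' * C'.index := by rw [e4]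
            _ = (Nat.card ↥(C' ⊓ K') * C'.index) * K'.relIndex C' := by ring
            _ = _ := by rw [e3]
        exact Nat.eq_of_mul_eq_mul_left Nat.card_pos e5
      have hp : ¬ p ∣ K'.index := by
        rw [hidx]
        intro hd
        have h1 : ¬ p ∣ (P : Subgroup ↥(M ⊓ CX)).index := P.not_dvd_index
        rw [hP] at h1
        have h2 := hd.trans (relIndex_dvd_of_le_left C' hT1K)
        rw [hC', relIndex_subgroupOf inf_le_left] at h2
        exact h1 h2
      obtain ⟨R⟩ : Nonempty (Sylow p ↥K') := inferInstance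
      have hR : ¬ p ∣ ((R : Subgroup ↥K').map K'.subtype).index := by
        rw [index_map_subtype]
        exact fun h => ((Fact.out : p.Prime).dvd_mul.mp h).elim R.not_dvd_index hp
      obtain ⟨m, hm⟩ := MulAction.exists_smul_eq ↥M (IsPGroup.toSylow (R.isPGroup'.map K'.subtype) hR)
        (T.subtype hTM)
      set K2 := K'.map (MulAut.conj m).toMonoidHom with hK2
      have hTK2 : (T : Subgroup H) ≤ K2.map M.subtype := by
        intro t ht
        refine ⟨⟨t, hTM ht⟩, ?_, rfl⟩
        have h1 : (⟨t, hTM ht⟩ : ↥M) ∈ ((T.subtype hTM : Sylow p ↥M) : Subgroup ↥M) := ht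
        rw [← hm, Sylow.coe_subgroup_smul] at h1
        obtain ⟨y, hy, he⟩ := h1
        exact ⟨y, map_subtype_le _ hy, he⟩
      have hK2top : K2 ⊔ C' = ⊤ := by
        have e : C'.map (MulAut.conj m).toMonoidHom = C' :=
          mem_normalizer_iff_map_conj_eq.mp (by rw [normalizer_eq_top]; exact mem_top m)
        rw [← e, hK2, ← Subgroup.map_sup, hK'top, map_top_of_surjective _ (MulAut.conj m).surjective]
      have hK2X : K2.map M.subtype ⊔ CX = X := by
        refine le_antisymm (sup_le ((map_subtype_le K2).trans hMleX) hCXX) (hMX.ge.trans (sup_le ?_ le_sup_right))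
        intro x hx
        have h1 := mem_map_of_mem M.subtype (hK2top ▸ mem_top (⟨x, hx⟩ : ↥M))
        rw [Subgroup.map_sup, map_subgroupOf_eq_of_le inf_le_left] at h1
        exact SetLike.le_def.mp (sup_le_sup_left (inf_le_right : M ⊓ CX ≤ CX) (K2.map M.subtype)) h1
      have hMle := hMmin (y := K2.map M.subtype) ⟨hTK2, (map_subtype_le K2).trans hMN, hK2X⟩ (map_subtype_le K2)
      have hK'eq : K' = ⊤ := by
        have h1 : K2 = ⊤ := eq_top_iff.mpr fun x _ => by
          obtain ⟨y, hy, he⟩ := hMle x.2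
          rwa [← Subtype.ext (a1 := y) (a2 := x) he]
        have h2 := congrArg (Subgroup.comap (MulAut.conj m).toMonoidHom) h1
        rwa [hK2, comap_map_eq_self_of_injective (MulAut.conj m).injective, comap_top] at h2
      refine hK.1 ?_
      rw [← map_comap_eq_self_of_surjective (f := π) (QuotientGroup.mk'_surjective _) K, ← hK', hK'eq,
        map_top_of_surjective _ (QuotientGroup.mk'_surjective _)]
  -- the subgroup inside `M`
  set R := M ⊓ L1 with hR
  have hTR : (T : Subgroup H) ≤ R := le_inf hTM (hTL.trans le_sup_left)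
  have hYT : Y ≤ (T : Subgroup H) := (largestPReducedOf_le_pCoreOf L).trans (pCoreOf_le_sylow T hTL)
  have hRm : R ∈ Cfsg.charPSubgroups p H := mem_charPSubgroups hH T hTR
    (hpne Y R (hYT.trans hTR) (inf_le_right.trans hL1Y) (isPGroup_of_isElementaryAbelian hYel) (hzY L hTL hL))
  have hfac : R ⊔ C = L ⊔ C := by
    refine le_antisymm (sup_le inf_le_right le_sup_right) (sup_le (hLX.trans (sup_le ?_ le_sup_right)) le_sup_right)
    intro x hx
    have hxM : x ∈ M ⊔ CX := hMX.symm ▸ hx.1
    rw [← SetLike.mem_coe, Subgroup.coe_mul_of_left_le_normalizer_right _ _ hMCX] at hxM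
    obtain ⟨m, hm, c, hc, rfl⟩ := hxM
    have hcC : c ∈ C := centralizer_le hYX hc
    exact mul_mem (mem_sup_left ⟨hm, by simpa using L1.mul_mem hx.2 (L1.inv_mem (mem_sup_right hcC : c ∈ L1))⟩)
      (mem_sup_right hcC)
  set T0 := (T : Subgroup H) ⊓ C with hT0
  set Ls := R ⊓ normalizer (T0 : Set H) with hLs
  obtain ⟨h1, h2⟩ := Cfsg.Agent.S2824.result T L R hTL hTR (charP_of_mem hL) (charP_of_mem hRm) T0 rfl hfac Ls rfl
  have hTLs : (T : Subgroup H) ≤ Ls := le_inf hTR fun t ht => inf_normalizer_le_normalizer_inf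
    ⟨le_normalizer ht, (normalizer_le_normalizer_centralizer Y) (le_normalizer_largestPReducedOf L (hTL ht))⟩
  have hLsm : Ls ∈ Cfsg.charPSubgroups p H := mem_charPSubgroups hH T hTLs
    (hpne Y Ls (hYT.trans hTLs) (inf_le_left.trans (inf_le_right.trans hL1Y))
      (isPGroup_of_isElementaryAbelian hYel) (hzY L hTL hL))
  exact ⟨M, Ls, hTM, hMfrak, hTLs, inf_le_left.trans inf_le_left, hLsm, h1.symm, hYM.symm ▸ hYX, h2⟩

end CfsgLib.PReduced
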