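import Mathlib.GroupTheory.QuotientGroup.Basic
import Cfsg.Agent.PCore.AxB
import Cfsg.Agent.CoprimeAction.Basic

/-!
The three subgroup lemma modulo a normalized subgroup, and coprime actions commuting with a p-group action.
-/

set_option autoImplicit false

namespace CfsgLib.PReduced

open Subgroup

variable {G : Type*} [Group G]

/-- The three subgroup lemma modulo `N`. -/
theorem commutator_rotate_le {A B C N : Subgroup G} (hA : A ≤ normalizer (N : Set G)) (hB : B ≤ normalizer (N : Set G))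
    (hC : C ≤ normalizer (N : Set G)) (h1 : ⁅⁅A, B⁆, C⁆ ≤ N) (h2 : ⁅⁅B, C⁆, A⁆ ≤ N) : ⁅⁅C, A⁆, B⁆ ≤ N := by
  set L := normalizer (N : Set G) with hL
  let π := QuotientGroup.mk' (N.subgroupOf L)
  have key : ∀ X Y Z : Subgroup G, X ≤ L → Y ≤ L → Z ≤ L →
      (⁅⁅X, Y⁆, Z⁆ ≤ N ↔ ⁅⁅(X.subgroupOf L).map π, (Y.subgroupOf L).map π⁆, (Z.subgroupOf L).map π⁆ = ⊥) := by
    intro X Y Z hX hY hZ
    rw [← map_commutator, ← map_commutator, Subgroup.map_eq_bot_iff, QuotientGroup.ker_mk']
    conv_lhs => rw [← map_subgroupOf_eq_of_le hX, ← map_subgroupOf_eq_of_le hY, ← map_subgroupOf_eq_of_le hZ,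
      ← map_commutator, ← map_commutator, map_le_iff_le_comap]
    rfl
  rw [key C A B hC hA hB]
  exact commutator_commutator_eq_bot_of_rotate ((key A B C hA hB hC).mp h1) ((key B C A hB hC hA).mp h2)

/-- If the p'-group `B` commutes with the p-group `A` and `[P, B] ≤ [P, A]`, then `B` centralizes `P`. -/
theorem commutator_eq_bot_of_le [Finite G] {p : ℕ} [Fact p.Prime] {P A B : Subgroup G} (hP : IsPGroup p P)
    (hA : IsPGroup p A) (hB : ¬ p ∣ Nat.card B) (hnA : A ≤ normalizer (P : Set G)) (hnB : B ≤ normalizer (P : Set G))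
    (hAB : ⁅A, B⁆ = ⊥) (hcomm : ⁅P, B⁆ ≤ ⁅P, A⁆) : ⁅P, B⁆ = ⊥ := by
  set X := ⁅P, B⁆ with hX
  have hXP : X ≤ P := CfsgLib.PCore.commutator_le_of_le_normalizer hnB
  set K := A ⊔ P with hK
  have hKp : IsPGroup p K := hA.to_sup_of_normal_right' hP hnA
  have hcA : A ≤ centralizer (B : Set G) := commutator_eq_bot_iff_le_centralizer.mp hAB
  have hBA : B ≤ normalizer (A : Set G) := (le_centralizer_iff.mp hcA).trans (centralizer_le_normalizer _)
  have hAX : A ≤ normalizer (X : Set G) :=
    CfsgLib.PCore.le_normalizer_commutator hnA (hcA.trans (centralizer_le_normalizer _))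
  have hPX : P ≤ normalizer (X : Set G) := CfsgLib.CoprimeAction.self_le_normalizer_commutator
  have hBX : B ≤ normalizer (X : Set G) := CfsgLib.CoprimeAction.le_normalizer_commutator hnB
  have hKX : K ≤ normalizer (X : Set G) := sup_le hAX hPX
  have hBK : B ≤ normalizer (K : Set G) := by
    intro b hb
    rw [mem_normalizer_iff_map_conj_eq, hK, Subgroup.map_sup, mem_normalizer_iff_map_conj_eq.mp (hBA hb),
      mem_normalizer_iff_map_conj_eq.mp (hnB hb)]
  set N := ⁅X, K⁆ with hN
  have hKN : K ≤ normalizer (N : Set G) := CfsgLib.PCore.le_normalizer_commutator hKX le_normalizer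
  have hBN : B ≤ normalizer (N : Set G) := CfsgLib.PCore.le_normalizer_commutator hBX hBK
  have h3 : ⁅⁅P, A⁆, B⁆ ≤ N := by
    refine commutator_rotate_le (le_sup_left.trans hKN) hBN (le_sup_right.trans hKN) ?_ ?_
    · rw [hAB, commutator_bot_left]
      exact bot_le
    · rw [commutator_comm B P]
      exact commutator_mono le_rfl le_sup_left
  have hcop : (Nat.card B).Coprime (Nat.card P) := by
    obtain ⟨k, hk⟩ := IsPGroup.iff_card.mp hP
    rw [hk]
    exact Nat.Coprime.pow_right _ ((Fact.out : p.Prime).coprime_iff_not_dvd.mpr hB).symm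
  have hsolv : Group.IsSolvable P := by
    haveI := hP.isNilpotent
    infer_instance
  have h4 : X ≤ N := by
    calc X = ⁅X, B⁆ := (CfsgLib.CoprimeAction.commutator_commutator_eq hnB hcop (Or.inr hsolv)).symm
      _ ≤ ⁅⁅P, A⁆, B⁆ := commutator_mono hcomm le_rfl
      _ ≤ N := h3
  by_contra hne
  exact CfsgLib.PCore.commutator_ne_of_isPGroup (hP.to_le hXP) hKp hKX hne
    (le_antisymm (CfsgLib.PCore.commutator_le_of_le_normalizer hKX) h4)

end CfsgLib.PReduced
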