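import Cfsg.Agent.Components.FStar
import Cfsg.Agent.Components.Basic
import Cfsg.Agent.CoprimeAction.Basic
import Cfsg.Agent.PCore.Basic
import Cfsg.Agent.PReduced.Basic

/-!
A `p`-group acting on a group equal to its generalized Fitting subgroup and with trivial `p`-core.
-/

set_option autoImplicit false
set_option linter.style.haveILetI false
set_option linter.unusedSectionVars false

namespace CfsgLib.PReduced.FStarAct

open Subgroup
open scoped commutatorElement

variable {G : Type*} [Group G] [Finite G] {p : ℕ} [Fact p.Prime]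

/-- A nilpotent normal subgroup of a group with trivial `p`-core has order prime to `p`. -/
theorem coprime_of_nilpotent {H : Type*} [Group H] [Finite H] (hO : Cfsg.pCore p H = ⊥) (N : Subgroup H) [N.Normal]
    [Group.IsNilpotent N] : (Nat.card N).Coprime p := by
  refine CfsgLib.PCore.coprime_of_not_dvd fun hd => ?_
  obtain ⟨P⟩ : Nonempty (Sylow p ↥N) := inferInstance
  have hPn : (P : Subgroup ↥N).Normal :=
    P.normal_of_normalizerCondition Group.normalizerCondition_of_isNilpotent
  haveI := P.characteristic_of_normal hPn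
  have h1 := CfsgLib.PCore.le_pCore (p := p) (ConjAct.normal_of_characteristic_of_normal (K := (P : Subgroup ↥N)))
    (P.isPGroup'.map _)
  rw [hO, le_bot_iff, map_eq_bot_iff_of_injective _ N.subtype_injective] at h1
  exact P.ne_bot_of_dvd_card hd h1

theorem fitting_coprime {H : Type*} [Group H] [Finite H] (hO : Cfsg.pCore p H = ⊥) :
    (Nat.card (Cfsg.fittingSubgroup H)).Coprime p := by
  haveI := CfsgLib.Components.fittingSubgroup_normal (G := H)
  haveI := CfsgLib.Components.fittingSubgroup_isNilpotent (G := H)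
  exact coprime_of_nilpotent hO _

/-- The hypotheses. -/
structure Hyp (p : ℕ) (L Y : Subgroup G) : Prop where
  YL : Y ≤ normalizer (L : Set G)
  Yp : IsPGroup p Y
  core : Cfsg.pCore p L = ⊥
  fstar : Cfsg.generalizedFittingSubgroup L = ⊤

variable {L Y : Subgroup G}

/-- A characteristic subgroup of a normalized subgroup is normalized. -/
theorem le_normalizer_map_char (hYL : Y ≤ normalizer (L : Set G)) (K : Subgroup L) [hK : K.Characteristic] :
    Y ≤ normalizer ((K.map L.subtype : Subgroup G) : Set G) := by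
  intro y hy
  refine mem_normalizer_iff_map_conj_eq.mpr ?_
  have h := (Subgroup.characteristic_iff_map_eq.mp hK) (L.normalizerMonoidHom ⟨y, hYL hy⟩)
  conv_rhs => rw [← h]
  rw [Subgroup.map_map, Subgroup.map_map]
  rfl

theorem center_coprime (h : Hyp p L Y) : (Nat.card (center ↥L)).Coprime p := by
  haveI : Group.IsNilpotent ↥(center ↥L) := by
    letI : CommGroup ↥(center ↥L) :=
      { (inferInstance : Group ↥(center ↥L)) with mul_comm := fun a b => Subtype.ext (mem_center_iff.mp b.2 a) }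
    exact CommGroup.isNilpotent
  exact coprime_of_nilpotent h.core _

/-- Elements of `p`-power order central in `L` are trivial. -/
theorem eq_one_of_central (h : Hyp p L Y) {x : G} (hx : x ∈ L) (hc : ∀ l ∈ L, l * x = x * l) {k : ℕ}
    (hk : x ^ p ^ k = 1) : x = 1 := by
  have hxc : (⟨x, hx⟩ : L) ∈ center ↥L := mem_center_iff.mpr fun l => Subtype.ext (hc l l.2)
  have h1 : orderOf (⟨x, hx⟩ : L) ∣ p ^ k := orderOf_dvd_of_pow_eq_one (Subtype.ext (by simpa using hk))
  have h2 := (Subgroup.orderOf_dvd_natCard _ hxc)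
  have := orderOf_eq_one_iff.mp (Nat.eq_one_of_dvd_coprimes ((center_coprime h).pow_right k) h2 h1)
  exact congrArg Subtype.val this

/-- A component is inside `[L,Y]` or is centralized by `Y`. -/
theorem component_dichotomy (h : Hyp p L Y) {K : Subgroup L} (hK : Cfsg.IsComponent K) :
    K.map L.subtype ≤ ⁅L, Y⁆ ∨ K.map L.subtype ≤ centralizer (Y : Set G) := by
  set Kg := K.map L.subtype with hKg
  have hKL : Kg ≤ L := map_subtype_le K
  have hperf : ⁅Kg, Kg⁆ = Kg := by
    rw [hKg, ← Subgroup.map_commutator, CfsgLib.Components.quasisimple_commutator hK.2]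
  have hDn : L ≤ normalizer ((⁅L, Y⁆ : Subgroup G) : Set G) := CfsgLib.CoprimeAction.self_le_normalizer_commutator
  by_cases hfix : ∀ y ∈ Y, Kg.map (MulAut.conj y).toMonoidHom = Kg
  · have hYK : Y ≤ normalizer (Kg : Set G) := fun y hy => mem_normalizer_iff_map_conj_eq.mpr (hfix y hy)
    haveI hn : ((⁅L, Y⁆ : Subgroup G).subgroupOf Kg).Normal := by
      refine ⟨fun n hn g => ?_⟩
      exact (mem_normalizer_iff.mp (hDn (hKL g.2)) (n : G)).mp hn
    have hq : Cfsg.IsQuasisimple ↥Kg :=
      CfsgLib.IsoInv.isQuasisimple_of_equiv (K.equivMapOfInjective L.subtype L.subtype_injective) hK.2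
    rcases CfsgLib.Components.quasisimple_normal hq hn with h1 | h1
    · right
      have h2 : ⁅⁅Kg, Y⁆, Kg⁆ = ⊥ := by
        rw [commutator_eq_bot_iff_le_centralizer]
        intro x hx
        have hxK : x ∈ Kg := CfsgLib.CoprimeAction.commutator_le_of_normalizer hYK hx
        have hxc := mem_center_iff.mp (h1 (show (⟨x, hxK⟩ : Kg) ∈ _ from commutator_mono hKL le_rfl hx))
        exact fun k hk => congrArg Subtype.val (hxc ⟨k, hk⟩)
      have h3 : ⁅⁅Kg, Kg⁆, Y⁆ = ⊥ :=
        commutator_commutator_eq_bot_of_rotate h2 (by rw [commutator_comm Y Kg]; exact h2)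
      rw [hperf, commutator_eq_bot_iff_le_centralizer] at h3
      exact h3
    · exact Or.inl (subgroupOf_eq_top.mp h1)
  · left
    push Not at hfix
    obtain ⟨y, hy, hne⟩ := hfix
    set σ := L.normalizerMonoidHom ⟨y, h.YL hy⟩ with hσ
    have hK' := CfsgLib.Components.isComponent_map_equiv σ hK
    have hmap : (K.map σ.toMonoidHom).map L.subtype = Kg.map (MulAut.conj y).toMonoidHom := by
      rw [hKg, Subgroup.map_map, Subgroup.map_map]
      rfl
    have hcomm : ⁅Kg, Kg.map (MulAut.conj y).toMonoidHom⁆ = ⊥ := by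
      rw [← hmap, hKg, ← Subgroup.map_commutator,
        CfsgLib.Components.components_commute hK hK' (fun e => hne (by rw [← hmap, ← e])), Subgroup.map_bot]
    rw [← hperf, commutator_le]
    intro k hk l hl
    set k' := y * k * y⁻¹ with hk'
    have hc : k' * l = l * k' :=
      (mem_centralizer_iff.mp ((commutator_eq_bot_iff_le_centralizer.mp hcomm) hl) k' ⟨k, hk, rfl⟩)
    have hd : ⁅k, y⁆ ∈ ⁅L, Y⁆ := commutator_mem_commutator (hKL hk) hy
    have e : ⁅k, l⁆ = ⁅k, y⁆ * (l * ⁅k, y⁆⁻¹ * l⁻¹) := by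
      calc ⁅k, l⁆ = k * ((k'⁻¹ * l) * k') * k⁻¹ * l⁻¹ := by
            rw [commutatorElement_def, mul_assoc k'⁻¹, ← hc]; group
        _ = ⁅k, y⁆ * (l * ⁅k, y⁆⁻¹ * l⁻¹) := by rw [hk']; simp only [commutatorElement_def]; group
    rw [e]
    exact mul_mem hd ((mem_normalizer_iff.mp (hDn (hKL hl)) _).mp (inv_mem hd))

theorem layer_le (h : Hyp p L Y) :
    (Cfsg.layer ↥L).map L.subtype ≤ ⁅L, Y⁆ ⊔ (L ⊓ centralizer (Y : Set G)) := by
  rw [Subgroup.map_le_iff_le_comap]
  refine sSup_le fun K hK => Subgroup.map_le_iff_le_comap.mp ?_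
  rcases component_dichotomy h hK with h1 | h1
  · exact h1.trans le_sup_left
  · exact (le_inf (map_subtype_le K) h1).trans le_sup_right

theorem fitting_normalized (h : Hyp p L Y) :
    Y ≤ normalizer (((Cfsg.fittingSubgroup ↥L).map L.subtype : Subgroup G) : Set G) := by
  haveI := CfsgLib.Components.fittingSubgroup_characteristic (G := ↥L)
  exact le_normalizer_map_char h.YL _

theorem fitting_sup (h : Hyp p L Y) {R : Subgroup G} (hR : R ≤ (Cfsg.fittingSubgroup ↥L).map L.subtype)
    (hYR : Y ≤ normalizer (R : Set G)) : ⁅R, Y⁆ ⊔ (R ⊓ centralizer (Y : Set G)) = R := by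
  have hc : (Nat.card R).Coprime p := Nat.Coprime.coprime_dvd_left
    ((card_dvd_of_le hR).trans (card_map_dvd _ L.subtype)) (fitting_coprime h.core)
  obtain ⟨n, hn⟩ := IsPGroup.iff_card.mp h.Yp
  refine CfsgLib.CoprimeAction.commutator_sup_centralizer hYR ?_ (Or.inl ?_)
  · rw [hn]; exact (hc.pow_right n).symm
  · haveI := h.Yp.isNilpotent
    infer_instance

/-- `L = [L,Y] C_L(Y)`. -/
theorem sup_eq (h : Hyp p L Y) : ⁅L, Y⁆ ⊔ (L ⊓ centralizer (Y : Set G)) = L := by
  refine le_antisymm (sup_le (CfsgLib.CoprimeAction.commutator_le_of_normalizer h.YL) inf_le_left) ?_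
  have hF : (Cfsg.fittingSubgroup ↥L).map L.subtype ≤ ⁅L, Y⁆ ⊔ (L ⊓ centralizer (Y : Set G)) := by
    conv_lhs => rw [← fitting_sup h le_rfl (fitting_normalized h)]
    exact sup_le_sup (commutator_mono (map_subtype_le _) le_rfl) (inf_le_inf_right _ (map_subtype_le _))
  calc L = (⊤ : Subgroup L).map L.subtype := by rw [← MonoidHom.range_eq_map, range_subtype]
    _ ≤ _ := by
      rw [← h.fstar, Cfsg.generalizedFittingSubgroup, Subgroup.map_sup]
      exact sup_le (layer_le h) hF

theorem exists_mul (h : Hyp p L Y) {l : G} (hl : l ∈ L) :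
    ∃ d ∈ ⁅L, Y⁆, ∃ c ∈ L ⊓ centralizer (Y : Set G), l = d * c := by
  have hle : L ⊓ centralizer (Y : Set G) ≤ normalizer ((⁅L, Y⁆ : Subgroup G) : Set G) :=
    inf_le_left.trans CfsgLib.CoprimeAction.self_le_normalizer_commutator
  rw [← sup_eq h, sup_comm, ← SetLike.mem_coe, coe_mul_of_left_le_normalizer_right _ _ hle] at hl
  obtain ⟨c, hc, d, hd, rfl⟩ := hl
  exact ⟨c * d * c⁻¹, (mem_normalizer_iff.mp (hle hc) d).mp hd, c, hc, by group⟩

/-- `[L,Y,Y] = [L,Y]`. -/
theorem comm_eq (h : Hyp p L Y) : ⁅⁅L, Y⁆, Y⁆ = ⁅L, Y⁆ := by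
  refine le_antisymm (commutator_mono (CfsgLib.CoprimeAction.commutator_le_of_normalizer h.YL) le_rfl) ?_
  rw [commutator_le]
  intro l hl y hy
  obtain ⟨d, hd, c, hc, rfl⟩ := exists_mul h hl
  have hca : y * c = c * y := mem_centralizer_iff.mp hc.2 y hy
  have e : ⁅d * c, y⁆ = ⁅d, y⁆ := by
    rw [commutatorElement_def, commutatorElement_def, mul_assoc d c y, ← hca]; group
  rw [e]
  exact commutator_mem_commutator hd hy

/-- An element of order prime to `p` that is fixed by `Y` lies in the derived subgroup, if `L = [L,Y]`. -/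
theorem mem_commutator_of_fixed (hYL : Y ≤ normalizer (L : Set G)) (hYp : IsPGroup p Y)
    (hcomm : ⁅L, Y⁆ = L) {z : L} (hz : ∀ y ∈ Y, y * (z : G) = z * y) (hcop : (orderOf z).Coprime p) :
    z ∈ commutator L := by
  classical
  haveI : Fintype Y := Fintype.ofFinite _
  let σ : Y →* MulAut L := (L.normalizerMonoidHom).comp (Subgroup.inclusion hYL)
  let f : L →* Abelianization L := MonoidHom.mk' (fun l => ∏ q : Y, Abelianization.of (σ q l))
    (fun a b => by simp [Finset.prod_mul_distrib])
  have hinv : ∀ (q0 : Y) (l : L), f (σ q0 l) = f l := fun q0 l =>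
    Fintype.prod_equiv (Equiv.mulRight q0) (fun q => Abelianization.of (σ q (σ q0 l)))
      (fun q => Abelianization.of (σ q l)) fun q => by simp [map_mul]
  have hle : L ≤ f.ker.map L.subtype := by
    conv_lhs => rw [← hcomm]
    rw [commutator_le]
    intro l hl y hy
    refine ⟨⟨l, hl⟩ * (σ ⟨y, hy⟩ ⟨l, hl⟩)⁻¹, ?_, ?_⟩
    · rw [SetLike.mem_coe, MonoidHom.mem_ker, map_mul, map_inv, hinv, mul_inv_cancel]
    · show l * (y * l * y⁻¹)⁻¹ = ⁅l, y⁆
      rw [commutatorElement_def]; group
  obtain ⟨w, hw, hwz⟩ := hle z.2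
  rw [show w = z from Subtype.ext hwz, SetLike.mem_coe, MonoidHom.mem_ker] at hw
  have hfix : ∀ q : Y, σ q z = z := fun q => Subtype.ext (by
    show (q : G) * z * (q : G)⁻¹ = z
    rw [hz q q.2, mul_inv_cancel_right])
  have hpow : (Abelianization.of z) ^ Fintype.card Y = 1 := by
    rw [← hw]
    show _ = ∏ q : Y, Abelianization.of (σ q z)
    simp only [hfix, Finset.prod_const, Finset.card_univ]
  obtain ⟨n, hn⟩ := IsPGroup.iff_card.mp hYp
  rw [← Nat.card_eq_fintype_card, hn] at hpow
  have h1 : Abelianization.of z = 1 :=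
    orderOf_eq_one_iff.mp (Nat.eq_one_of_dvd_coprimes (hcop.pow_right n) (orderOf_map_dvd _ z)
      (orderOf_dvd_of_pow_eq_one hpow))
  exact (QuotientGroup.eq_one_iff z).mp h1

/-- The generalized Fitting subgroup of a group with trivial `p`-core. -/
theorem hyp_fstar {H : Type*} [Group H] [Finite H] (hO : Cfsg.pCore p H = ⊥) {Y : Subgroup H} (hY : IsPGroup p Y) :
    Hyp p (Cfsg.generalizedFittingSubgroup H) Y := by
  haveI := CfsgLib.Components.generalizedFittingSubgroup_normal (G := H)
  refine ⟨le_normalizer_of_normal, hY, ?_, CfsgLib.Components.generalizedFitting_generalizedFitting⟩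
  refine le_bot_iff.mp fun x hx => ?_
  have hn := CfsgLib.PCore.map_pCore_normal (p := p) (Cfsg.generalizedFittingSubgroup H)
  have h1 : (x : H) ∈ Cfsg.pCore p H := (hn.le ⟨x, hx, rfl⟩).1
  rw [hO, mem_bot] at h1
  exact mem_bot.mpr (Subtype.ext h1)

/-- Elements of `p`-power order centralizing `F*(H)` are trivial. -/
theorem eq_one_of_centralizes_fstar {H : Type*} [Group H] [Finite H] (hO : Cfsg.pCore p H = ⊥) {x : H} {k : ℕ}
    (hk : x ^ p ^ k = 1) (hc : ∀ f ∈ Cfsg.generalizedFittingSubgroup H, f * x = x * f) : x = 1 :=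
  eq_one_of_central (hyp_fstar hO (Y := ⊥) IsPGroup.of_bot)
    (CfsgLib.Components.centralizer_generalizedFittingSubgroup_le (mem_centralizer_iff.mpr hc)) hc hk

end CfsgLib.PReduced.FStarAct
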