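import Cfsg.Agent.PReduced.Basic
import Cfsg.Agent.PCore.Basic
import Cfsg.Prelude.Def_LocalStructure
import Mathlib.GroupTheory.Nilpotent

/-!
Fixed points of the members of `𝔏` on `A/C`: the model-free part.
-/

set_option autoImplicit false
set_option linter.style.haveILetI false
set_option linter.unusedSectionVars false

namespace CfsgLib.PReduced.FrakL

open Subgroup

variable {H : Type*} [Group H] {p : ℕ} {Y N : Subgroup H}

/-- The facts about a `Y`-minimal group with an abelian-by-central `p`-core that are used. -/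
structure YConf (p : ℕ) (Y N : Subgroup H) : Prop where
  el : Cfsg.IsElementaryAbelian p Y
  YN : Y ≤ N
  NY : N ≤ normalizer (Y : Set H)
  ne : N ≠ ⊤
  uniq : ∀ X : Subgroup H, Y ≤ X → X ≠ ⊤ → X ≤ N
  gen : normalClosure (Y : Set H) = ⊤
  ON : Cfsg.pCore p H ≤ N
  cap : ∀ g ∉ N, ∀ x ∈ Y, g⁻¹ * x * g ∈ Y → x ∈ center H
  comm : ∀ a ∈ Cfsg.pCore p H, ∀ b ∈ Cfsg.pCore p H, a * b * a⁻¹ * b⁻¹ ∈ Y ⊓ center H
  cen : Cfsg.pCore p H ⊓ center H ≤ Y
  decomp : ∀ g ∉ N, ∀ a ∈ Cfsg.pCore p H,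
    ∃ b b', b ∈ Y ∧ g⁻¹ * b' * g ∈ Y ∧ b' ∈ Cfsg.pCore p H ∧ a = b * b'

/-- No nontrivial fixed point on `O_p(H)` modulo `C_Y(H)`. -/
def Good (p : ℕ) (Y : Subgroup H) (h : H) : Prop :=
  ∀ a ∈ Cfsg.pCore p H, h * a * h⁻¹ * a⁻¹ ∈ Y ⊓ center H → a ∈ Y ⊓ center H

theorem central_conj {c : H} (hc : c ∈ Y ⊓ center H) (x : H) : x * c * x⁻¹ = c := by
  rw [mem_center_iff.mp hc.2 x, mul_inv_cancel_right]

theorem normal_C : (Y ⊓ center H).Normal :=
  ⟨fun c hc x => by rwa [central_conj hc x]⟩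

theorem pCore_normal : (Cfsg.pCore p H).Normal := by
  haveI := CfsgLib.PCore.pCore_characteristic p H
  infer_instance

variable [Finite H] [Fact p.Prime]

theorem exists_conj_notMem (hC : YConf p Y N) {y : H} (hy : y ∈ Y) (hyO : y ∉ Cfsg.pCore p H) :
    ∃ g, g ∉ N ∧ g⁻¹ * y * g ∉ N := by
  by_contra hcon
  push Not at hcon
  have hyK : y ∈ N.normalCore := fun g => by
    by_cases hg : g⁻¹ ∈ N
    · exact N.mul_mem (N.mul_mem (by simpa using N.inv_mem hg) (hC.YN hy)) (by simpa using hg)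
    · have := hcon g⁻¹ hg
      simpa using this
  have hK : N.normalCore ≤ normalizer (Y : Set H) := N.normalCore_le.trans hC.NY
  haveI : N.normalCore.Normal := normalCore_normal N
  have hn : N.normalCore ≤ normalizer ((Y ⊓ N.normalCore : Subgroup H) : Set H) := by
    intro k hk
    rw [mem_normalizer_iff]
    intro z
    simp only [Subgroup.mem_inf]
    refine and_congr (mem_normalizer_iff.mp (hK hk) z) ⟨fun hz => Normal.conj_mem ‹_› z hz k, fun hz => ?_⟩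
    simpa [mul_assoc] using Normal.conj_mem ‹N.normalCore.Normal› _ hz k⁻¹
  have h1 : y ∈ Cfsg.pCoreOf p N.normalCore :=
    le_pCoreOf inf_le_right hn ((isPGroup_of_isElementaryAbelian hC.el).to_le inf_le_left) ⟨hy, hyK⟩
  have h2 : (Cfsg.pCoreOf p N.normalCore).Normal := by
    refine normalizer_eq_top_iff.mp (top_le_iff.mp ?_)
    rw [← normalizer_eq_top (H := N.normalCore)]
    exact normalizer_le_normalizer_pCoreOf _
  exact hyO (le_pCore h2 (isPGroup_pCoreOf _) h1)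

theorem central_of_centralizes (hC : YConf p Y N) {g b : H} (hY : ∀ y ∈ Y, Commute (g * y * g⁻¹) b)
    (hp' : ∀ x : H, ∀ n : ℕ, x ^ n = 1 → n.Coprime p → Commute x b) : b ∈ center H := by
  set Z := centralizer ({b} : Set H) with hZ
  by_cases hZt : Z = ⊤
  · refine mem_center_iff.mpr fun x => ?_
    have : x ∈ Z := hZt ▸ mem_top x
    exact mem_centralizer_singleton_iff.mp this
  exfalso
  set Z' := Z.comap (MulAut.conj g).toMonoidHom with hZ'
  have hZ'le : Z' ≤ N := by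
    refine hC.uniq _ (fun y hy => ?_) (fun e => hZt ?_)
    · show g * y * g⁻¹ ∈ Z
      exact mem_centralizer_singleton_iff.mpr (hY y hy)
    · exact comap_injective (MulAut.conj g).surjective (e.trans (comap_top _).symm)
  have hRN : ∀ x : H, ∀ n : ℕ, x ^ n = 1 → n.Coprime p → x ∈ N := by
    intro x n hx hn
    refine hZ'le ?_
    show g * x * g⁻¹ ∈ Z
    exact mem_centralizer_singleton_iff.mpr (hp' _ n (by rw [conj_pow, hx]; group) hn)
  set R := closure {x : H | ∃ n : ℕ, x ^ n = 1 ∧ n.Coprime p} with hR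
  have hRle : R ≤ N := (closure_le _).mpr fun x ⟨n, hx, hn⟩ => hRN x n hx hn
  haveI hRn : R.Normal := by
    refine ⟨fun x hx c => ?_⟩
    have hle : R ≤ R.comap (MulAut.conj c).toMonoidHom := (closure_le _).mpr fun z ⟨n, hz, hn⟩ =>
      subset_closure ⟨n, by simp [hz], hn⟩
    simpa using hle hx
  have hpq : IsPGroup p (H ⧸ R) := by
    intro q
    obtain ⟨x, rfl⟩ := QuotientGroup.mk'_surjective R q
    obtain ⟨k, m, hm, hk⟩ := Nat.exists_eq_pow_mul_and_not_dvd (orderOf_pos x).ne' p (Fact.out : p.Prime).ne_one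
    refine ⟨k, ?_⟩
    rw [← map_pow]
    refine (QuotientGroup.eq_one_iff _).mpr (subset_closure ⟨m, ?_, ?_⟩)
    · rw [← pow_mul, ← hk, pow_orderOf_eq_one]
    · exact ((Fact.out : p.Prime).coprime_iff_not_dvd.mpr hm).symm
  haveI : Group.IsNilpotent (H ⧸ R) := hpq.isNilpotent
  set π := QuotientGroup.mk' R
  have hNc : (N.map π).comap π = N := by
    rw [comap_map_eq, QuotientGroup.ker_mk', sup_eq_left.mpr hRle]
  have hlt : N.map π < ⊤ := lt_top_iff_ne_top.mpr fun e => hC.ne (by rw [← hNc, e, comap_top])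
  have hlt' := Group.normalizerCondition_of_isNilpotent _ hlt
  have htop : (normalizer (N.map π : Set (H ⧸ R))).comap π = ⊤ := by
    by_contra hne
    have hle := hC.uniq _ (hC.YN.trans (hNc.symm.le.trans (comap_mono le_normalizer))) hne
    refine hlt'.not_ge ?_
    intro q hq
    obtain ⟨x, rfl⟩ := QuotientGroup.mk'_surjective R q
    exact ⟨x, hle hq, rfl⟩
  haveI : (N.map π).Normal := normalizer_eq_top_iff.mp
    (comap_injective (QuotientGroup.mk'_surjective R) (htop.trans (comap_top _).symm))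
  have hNn : N.Normal := hNc ▸ inferInstance
  exact hC.ne (top_le_iff.mp (hC.gen ▸ normalClosure_le_normal (N := N) hC.YN))

/-- An element of `Y` outside the `p`-core has only the fixed points `Y ∩ O_p(H)` modulo `C_Y(H)`. -/
theorem key (hC : YConf p Y N) {y v : H} (hy : y ∈ Y) (hyO : y ∉ Cfsg.pCore p H) (hv : v ∈ Cfsg.pCore p H)
    (hc : y * v * y⁻¹ * v⁻¹ ∈ Y ⊓ center H) : v ∈ Y := by
  obtain ⟨g, hg, hgy⟩ := exists_conj_notMem hC hy hyO
  obtain ⟨b, b', hb, hb', hb'O, rfl⟩ := hC.decomp g hg v hv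
  have hyb : y * b = b * y := mem_centralizer_iff.mp (le_centralizer_self hC.el hb) y hy
  have h1 : y * b' * y⁻¹ * b'⁻¹ ∈ Y ⊓ center H := by
    have e : y * b' * y⁻¹ * b'⁻¹ = b⁻¹ * (y * (b * b') * y⁻¹ * (b * b')⁻¹) * b := by
      rw [← mul_assoc y b b', hyb]; group
    rw [e]
    simpa [central_conj hc b⁻¹] using (show b⁻¹ * (y * (b * b') * y⁻¹ * (b * b')⁻¹) * b⁻¹⁻¹ ∈ Y ⊓ center H by
      rw [central_conj hc b⁻¹]; exact hc)
  let K : Subgroup H :=
    { carrier := {x | x * b' * x⁻¹ * b'⁻¹ ∈ Y ⊓ center H}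
      one_mem' := by simp
      mul_mem' := by
        intro x z hx hz
        have e : x * z * b' * (x * z)⁻¹ * b'⁻¹ =
            x * (z * b' * z⁻¹ * b'⁻¹) * x⁻¹ * (x * b' * x⁻¹ * b'⁻¹) := by group
        show x * z * b' * (x * z)⁻¹ * b'⁻¹ ∈ Y ⊓ center H
        rw [e, central_conj hz x]
        exact mul_mem hz hx
      inv_mem' := by
        intro x hx
        have e : x⁻¹ * b' * x⁻¹⁻¹ * b'⁻¹ = x⁻¹ * (x * b' * x⁻¹ * b'⁻¹)⁻¹ * x⁻¹⁻¹ := by group
        show x⁻¹ * b' * x⁻¹⁻¹ * b'⁻¹ ∈ Y ⊓ center H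
        rw [e, central_conj (inv_mem hx)]
        exact inv_mem hx }
  have hgY : ∀ z ∈ Y, Commute (g * z * g⁻¹) b' := by
    intro z hz
    have e := mem_centralizer_iff.mp (le_centralizer_self hC.el hb') z hz
    show g * z * g⁻¹ * b' = b' * (g * z * g⁻¹)
    calc g * z * g⁻¹ * b' = g * (z * (g⁻¹ * b' * g)) * g⁻¹ := by group
      _ = g * (g⁻¹ * b' * g * z) * g⁻¹ := by rw [e]
      _ = b' * (g * z * g⁻¹) := by group
  have hKt : ∀ x, x ∈ K := by
    have : K.comap (MulAut.conj g).toMonoidHom = ⊤ := by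
      by_contra hne
      refine hgy (hC.uniq _ (fun z hz => ?_) hne ?_)
      · show g * z * g⁻¹ * b' * (g * z * g⁻¹)⁻¹ * b'⁻¹ ∈ Y ⊓ center H
        rw [(hgY z hz).eq, mul_inv_cancel_right, mul_inv_cancel]
        exact one_mem _
      · show g * (g⁻¹ * y * g) * g⁻¹ * b' * (g * (g⁻¹ * y * g) * g⁻¹)⁻¹ * b'⁻¹ ∈ Y ⊓ center H
        rw [show g * (g⁻¹ * y * g) * g⁻¹ = y by group]
        exact h1
    intro x
    have h := this ▸ mem_top (g⁻¹ * x * g)
    have h' : g * (g⁻¹ * x * g) * g⁻¹ ∈ K := h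
    rwa [show g * (g⁻¹ * x * g) * g⁻¹ = x by group] at h'
  have hcent : b' ∈ center H := by
    refine central_of_centralizes hC hgY fun x n hx hn => ?_
    set c := x * b' * x⁻¹ * b'⁻¹ with hcdef
    have hcC : c ∈ Y ⊓ center H := hKt x
    have hxb : x * b' * x⁻¹ = c * b' := by rw [hcdef]; group
    have hpow : ∀ k : ℕ, x ^ k * b' * (x ^ k)⁻¹ = c ^ k * b' := by
      intro k
      induction k with
      | zero => simp
      | succ k ih =>
        rw [pow_succ', mul_inv_rev, show x * x ^ k * b' * ((x ^ k)⁻¹ * x⁻¹) = x * (x ^ k * b' * (x ^ k)⁻¹) * x⁻¹ by group,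
          ih, show x * (c ^ k * b') * x⁻¹ = x * c ^ k * x⁻¹ * (x * b' * x⁻¹) by group,
          central_conj (pow_mem hcC k) x, hxb, ← mul_assoc, ← pow_succ, pow_succ']
    have hcn : c ^ n = 1 := by simpa [hx] using (hpow n).symm
    have hc1 : c = 1 := by
      have h1 := orderOf_dvd_of_pow_eq_one hcn
      have h2 := orderOf_dvd_of_pow_eq_one (hC.el.2 c hcC.1)
      exact orderOf_eq_one_iff.mp (Nat.eq_one_of_dvd_coprimes hn h1 h2)
    show x * b' = b' * x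
    calc x * b' = x * b' * x⁻¹ * x := by group
      _ = b' * x := by rw [hxb, hc1, one_mul]
  exact Y.mul_mem hb (hC.cen ⟨hb'O, hcent⟩)

theorem key_conj (hC : YConf p Y N) {x y v : H} (hy : y ∈ Y) (hyO : y ∉ Cfsg.pCore p H) (hv : v ∈ Cfsg.pCore p H)
    (hc : x * y * x⁻¹ * v * (x * y * x⁻¹)⁻¹ * v⁻¹ ∈ Y ⊓ center H) : x⁻¹ * v * x ∈ Y := by
  refine key hC hy hyO (by simpa using pCore_normal.conj_mem v hv x⁻¹) ?_
  have h1 := central_conj hc x⁻¹
  rw [show y * (x⁻¹ * v * x) * y⁻¹ * (x⁻¹ * v * x)⁻¹ =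
    x⁻¹ * (x * y * x⁻¹ * v * (x * y * x⁻¹)⁻¹ * v⁻¹) * x⁻¹⁻¹ by group, h1]
  exact hc

/-- An element that is, modulo the `p`-core, not a `p`-element and a product of two elements of conjugates of `Y`. -/
theorem good_pair (hC : YConf p Y N) {h x y x' y' : H} (hy : y ∈ Y) (hy' : y' ∈ Y) {o : H}
    (ho : o ∈ Cfsg.pCore p H) (he : h = x * y * x⁻¹ * (x' * y' * x'⁻¹) * o)
    (hnp : h ^ p ∉ Cfsg.pCore p H) : Good p Y h := by
  haveI := pCore_normal (p := p) (H := H)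
  set π := QuotientGroup.mk' (Cfsg.pCore p H) with hπ
  have hnot : ∀ w, π h = π w → w ^ p ≠ 1 := fun w hw e => hnp ((QuotientGroup.eq_one_iff _).mp (by
    show π (h ^ p) = 1
    rw [map_pow, hw, ← map_pow, e, map_one]))
  set s := x * y * x⁻¹ with hs
  set t := x' * y' * x'⁻¹ with ht
  have hst : π h = π (s * t) := by
    rw [he, map_mul _ (s * t) o]
    have : π o = 1 := (QuotientGroup.eq_one_iff o).mpr ho
    rw [this, mul_one]
  have hpow : ∀ z c : H, z ∈ Y → (c * z * c⁻¹) ^ p = 1 := fun z c hz => by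
    rw [conj_pow, hC.el.2 z hz]; group
  have hyO : y ∉ Cfsg.pCore p H := fun hyO => hnot t (by
    rw [hst, map_mul]
    have : π s = 1 := (QuotientGroup.eq_one_iff s).mpr (Normal.conj_mem ‹_› y hyO x)
    rw [this, one_mul]) (hpow y' x' hy')
  have hy'O : y' ∉ Cfsg.pCore p H := fun hy'O => hnot s (by
    rw [hst, map_mul]
    have : π t = 1 := (QuotientGroup.eq_one_iff t).mpr (Normal.conj_mem ‹_› y' hy'O x')
    rw [this, mul_one]) (hpow y x hy)
  have hxx : x⁻¹ * x' ∉ N := by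
    intro hn
    refine hnot (s * t) hst ?_
    rw [show s * t = x * (y * ((x⁻¹ * x') * y' * (x⁻¹ * x')⁻¹)) * x⁻¹ by rw [hs, ht]; group]
    exact hpow _ x (Y.mul_mem hy ((mem_normalizer_iff.mp (hC.NY hn) y').mp hy'))
  intro a ha hc
  have hside : ∀ z c : H, z ∈ Y → c⁻¹ * ((c * z * c⁻¹) * a * (c * z * c⁻¹)⁻¹ * a⁻¹) * c ∈ Y := by
    intro z c hz
    have ha' : c⁻¹ * a * c ∈ Cfsg.pCore p H := by simpa using Normal.conj_mem ‹_› a ha c⁻¹
    rw [show c⁻¹ * ((c * z * c⁻¹) * a * (c * z * c⁻¹)⁻¹ * a⁻¹) * c =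
      z * ((c⁻¹ * a * c) * z⁻¹ * (c⁻¹ * a * c)⁻¹) by group]
    exact Y.mul_mem hz ((mem_normalizer_iff.mp (hC.NY (hC.ON ha')) _).mp (Y.inv_mem hz))
  set W := t * a * t⁻¹ * a⁻¹ with hW
  set U := s⁻¹ * a * s * a⁻¹ with hU
  have hWU : W * U⁻¹ ∈ Y ⊓ center H := by
    have h1 : s * t * a * t⁻¹ * s⁻¹ * a⁻¹ =
        (s * t * (o * a * o⁻¹ * a⁻¹) * (s * t)⁻¹)⁻¹ * (h * a * h⁻¹ * a⁻¹) := by
      rw [he]; group
    have h2 : s * t * a * t⁻¹ * s⁻¹ * a⁻¹ ∈ Y ⊓ center H := by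
      rw [h1, central_conj (hC.comm o ho a ha)]
      exact mul_mem (inv_mem (hC.comm o ho a ha)) hc
    rw [show W * U⁻¹ = s⁻¹ * (s * t * a * t⁻¹ * s⁻¹ * a⁻¹) * s⁻¹⁻¹ by rw [hW, hU]; group,
      central_conj h2]
    exact h2
  have hUY : x⁻¹ * U * x ∈ Y := by
    have := hside y⁻¹ x (Y.inv_mem hy)
    rw [show x * y⁻¹ * x⁻¹ = s⁻¹ by rw [hs]; group, inv_inv] at this
    exact this
  have hWY : x⁻¹ * W * x ∈ Y := by
    rw [show x⁻¹ * W * x = x⁻¹ * (W * U⁻¹) * x⁻¹⁻¹ * (x⁻¹ * U * x) by group, central_conj hWU]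
    exact Y.mul_mem hWU.1 hUY
  have hcentral : ∀ z, x⁻¹ * z * x ∈ Y → x'⁻¹ * z * x' ∈ Y → z ∈ center H := by
    intro z hz hz'
    have := hC.cap _ hxx _ hz (by
      rw [show (x⁻¹ * x')⁻¹ * (x⁻¹ * z * x) * (x⁻¹ * x') = x'⁻¹ * z * x' by group]; exact hz')
    have e := mem_center_iff.mp this x
    rw [show z = x⁻¹ * z * x by
      calc z = x * (x⁻¹ * z * x) * x⁻¹ := by group
        _ = _ := by rw [e]; group]
    exact this
  have hWO : W ∈ Cfsg.pCore p H :=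
    mul_mem (Normal.conj_mem ‹_› a ha t) (inv_mem ha)
  have hWC : W ∈ Y ⊓ center H := by
    have hWc : W ∈ center H := hcentral W hWY (hside y' x' hy')
    exact ⟨hC.cen ⟨hWO, hWc⟩, hWc⟩
  have hUC : U ∈ Y ⊓ center H := by
    rw [show U = (W * U⁻¹)⁻¹ * W by group]
    exact mul_mem (inv_mem hWU) hWC
  have ha1 : x⁻¹ * a * x ∈ Y := key_conj hC (Y.inv_mem hy) (fun e => hyO (by simpa using inv_mem e)) ha (by
    rw [show x * y⁻¹ * x⁻¹ * a * (x * y⁻¹ * x⁻¹)⁻¹ * a⁻¹ = U by rw [hU, hs]; group]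
    exact hUC)
  have ha2 : x'⁻¹ * a * x' ∈ Y := key_conj hC hy' hy'O ha hWC
  have hac := hcentral a ha1 ha2
  exact ⟨hC.cen ⟨ha, hac⟩, hac⟩

omit [Finite H] [Fact p.Prime] in
theorem good_of_pow {h : H} {n : ℕ} (hg : Good p Y (h ^ n)) : Good p Y h := by
  intro a ha hc
  refine hg a ha ?_
  have : ∀ k : ℕ, h ^ k * a * (h ^ k)⁻¹ * a⁻¹ ∈ Y ⊓ center H := by
    intro k
    induction k with
    | zero => simp
    | succ k ih =>
      rw [pow_succ', show h * h ^ k * a * (h * h ^ k)⁻¹ * a⁻¹ =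
        h * (h ^ k * a * (h ^ k)⁻¹ * a⁻¹) * h⁻¹ * (h * a * h⁻¹ * a⁻¹) by group, central_conj ih]
      exact mul_mem ih hc
  exact this n

omit [Finite H] [Fact p.Prime] in
theorem good_congr (hC : YConf p Y N) {h z o : H} (ho : o ∈ Cfsg.pCore p H) (e : h = z * o)
    (hg : Good p Y z) : Good p Y h := by
  intro a ha hc
  refine hg a ha ?_
  rw [show z * a * z⁻¹ * a⁻¹ = (z * (o * a * o⁻¹ * a⁻¹) * z⁻¹)⁻¹ * (h * a * h⁻¹ * a⁻¹) by rw [e]; group,
    central_conj (hC.comm o ho a ha)]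
  exact mul_mem (inv_mem (hC.comm o ho a ha)) hc

/-- A `p`-group fixed point argument. -/
theorem good_pow_prime {z : H} (hg : Good p Y z) : Good p Y (z ^ p) := by
  intro a ha hc
  by_contra haC
  haveI := normal_C (Y := Y)
  set π := QuotientGroup.mk' (Y ⊓ center H) with hπ
  have hπ1 : ∀ x, π x = 1 ↔ x ∈ Y ⊓ center H := fun x => QuotientGroup.eq_one_iff x
  haveI := pCore_normal (p := p) (H := H)
  haveI hOn : ((Cfsg.pCore p H).map π).Normal := Normal.map ‹_› π (QuotientGroup.mk'_surjective _)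
  set W := (Cfsg.pCore p H).map π ⊓ centralizer ({π z ^ p} : Set (H ⧸ Y ⊓ center H)) with hW
  have hu : π z ∈ normalizer (W : Set (H ⧸ Y ⊓ center H)) := by
    refine Subgroup.mem_normalizer_fintype fun w hw => ⟨hOn.conj_mem w hw.1 _, ?_⟩
    have hc1 : Commute (π z) (π z ^ p) := Commute.self_pow _ p
    have hc2 : Commute w (π z ^ p) := mem_centralizer_singleton_iff.mp hw.2
    exact mem_centralizer_singleton_iff.mpr ((hc1.mul_left hc2).mul_left hc1.inv_left).eq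
  set σ : MulAut W := W.normalizerMonoidHom ⟨π z, hu⟩ with hσ
  have hσp : σ ^ p = 1 := by
    rw [hσ, ← map_pow]
    refine MulEquiv.ext fun w => Subtype.ext ?_
    show π z ^ p * (w : H ⧸ Y ⊓ center H) * (π z ^ p)⁻¹ = w
    have := mem_centralizer_singleton_iff.mp w.2.2
    rw [← this, mul_inv_cancel_right]
  have hP : IsPGroup p (zpowers σ) := by
    rintro ⟨τ, hτ⟩
    obtain ⟨i, rfl⟩ := mem_zpowers_iff.mp hτ
    refine ⟨1, Subtype.ext ?_⟩
    show (σ ^ i) ^ (p ^ 1) = 1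
    rw [pow_one, ← zpow_natCast, ← zpow_mul, mul_comm, zpow_mul, zpow_natCast, hσp, one_zpow]
  have hWp : IsPGroup p W := ((isPGroup_pCore p H).map π).to_le inf_le_left
  have haW : π a ∈ W := by
    refine ⟨mem_map_of_mem π ha, mem_centralizer_singleton_iff.mpr ?_⟩
    have := (hπ1 _).mpr hc
    rw [map_mul, map_mul, map_mul, map_inv, map_inv, map_pow] at this
    rw [mul_inv_eq_one, mul_inv_eq_iff_eq_mul] at this
    exact this.symm
  haveI : Nontrivial W := ⟨⟨⟨π a, haW⟩, 1, fun e => haC ((hπ1 a).mp (congrArg Subtype.val e))⟩⟩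
  obtain ⟨n, hn, hcard⟩ := hWp.nontrivial_iff_card.mp ‹_›
  obtain ⟨b, hb, hb1⟩ := hP.exists_fixed_point_of_prime_dvd_card_of_fixed_point W
    (hcard ▸ dvd_pow_self p hn.ne') (a := 1) (fun τ => smul_one τ)
  have hb' := congrArg Subtype.val (hb ⟨σ, mem_zpowers σ⟩)
  change π z * (b : H ⧸ Y ⊓ center H) * (π z)⁻¹ = b at hb'
  obtain ⟨c, hcO, hcb⟩ := b.2.1
  rw [← hcb] at hb'
  have := hg c hcO ((hπ1 _).mp (by rw [map_mul, map_mul, map_mul, map_inv, map_inv, hb', mul_inv_cancel]))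
  exact hb1 (Subtype.ext (hcb.symm.trans ((hπ1 c).mpr this)).symm)

/-! ### Reading off fixed-point-freeness in a model of the factor group -/

variable {Q : Type*} [Group Q] {φ : H →* Q}

/-- `a` lies in a conjugate of the image of `Y`. -/
def InConj (φ : H →* Q) (Y : Subgroup H) (a : Q) : Prop := ∃ ξ : Q, ξ⁻¹ * a * ξ ∈ Y.map φ

theorem good_factor (hC : YConf p Y N) (hsurj : Function.Surjective φ) (hker : φ.ker = Cfsg.pCore p H)
    {h : H} {a b : Q} (e : φ h = a * b) (ha : InConj φ Y a) (hb : InConj φ Y b)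
    (hnp : φ h ^ p ≠ 1) : Good p Y h := by
  obtain ⟨ξ, y, hy, hy'⟩ := ha
  obtain ⟨η, y', hz, hz'⟩ := hb
  obtain ⟨x, rfl⟩ := hsurj ξ
  obtain ⟨x', rfl⟩ := hsurj η
  refine good_pair hC (x := x) (x' := x') hy hz (o := (x * y * x⁻¹ * (x' * y' * x'⁻¹))⁻¹ * h) ?_ (by group) ?_
  · rw [← hker, MonoidHom.mem_ker, map_mul, map_inv, map_mul, map_mul, map_mul, map_mul, map_mul, map_inv, map_inv,
      hy', hz', e]
    group
  · rw [← hker, MonoidHom.mem_ker, map_pow]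
    exact hnp

theorem not_le_pCore (hC : YConf p Y N) : ¬ Y ≤ Cfsg.pCore p H := fun hle => by
  haveI := pCore_normal (p := p) (H := H)
  exact hC.ne (top_le_iff.mp ((hC.gen ▸ normalClosure_le_normal (N := Cfsg.pCore p H) hle).trans hC.ON))

/-- The case of an image of order two: the factor group is dihedral. -/
theorem good_two (hC : YConf p Y N) (hsurj : Function.Surjective φ) (hker : φ.ker = Cfsg.pCore p H)
    (h2 : Nat.card (Y.map φ) = 2) {h : H} (hnp : ∀ k : ℕ, φ h ^ p ^ k ≠ 1) : Good p Y h := by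
  have hYel : ∀ a ∈ Y.map φ, a ^ p = 1 := by
    rintro _ ⟨y, hy, rfl⟩
    rw [← map_pow, hC.el.2 y hy, map_one]
  obtain ⟨y, hy, hyO⟩ := SetLike.not_le_iff_exists.mp (not_le_pCore hC)
  set y0 := φ y with hy0
  have hy0m : y0 ∈ Y.map φ := mem_map_of_mem φ hy
  have hy01 : y0 ≠ 1 := fun e => hyO (hker ▸ (φ.mem_ker.mpr e))
  have hsq : ∀ a ∈ Y.map φ, a ^ 2 = 1 := fun a ha => by
    rw [← h2]
    exact congrArg Subtype.val (pow_card_eq_one' (x := (⟨a, ha⟩ : Y.map φ)))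
  have hall : ∀ a ∈ Y.map φ, a = 1 ∨ a = y0 := by
    intro a ha
    obtain ⟨u, v, huv, huniv⟩ := Nat.card_eq_two_iff.mp h2
    have hmem : ∀ w : Y.map φ, w = u ∨ w = v := fun w => by
      have : w ∈ ({u, v} : Set (Y.map φ)) := huniv ▸ Set.mem_univ w
      simpa using this
    by_contra hcon
    push Not at hcon
    rcases hmem ⟨a, ha⟩ with h1 | h1 <;> rcases hmem 1 with h3 | h3 <;> rcases hmem ⟨y0, hy0m⟩ with h4 | h4 <;>
      first
      | exact hcon.1 (congrArg Subtype.val (h1.trans h3.symm))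
      | exact hcon.2 (congrArg Subtype.val (h1.trans h4.symm))
      | exact hy01 (congrArg Subtype.val (h4.trans h3.symm))
  have hp2 : p = 2 := by
    have h1 := orderOf_dvd_of_pow_eq_one (hYel y0 hy0m)
    rw [orderOf_eq_prime (hsq y0 hy0m) hy01] at h1
    exact ((Nat.prime_dvd_prime_iff_eq Nat.prime_two Fact.out).mp h1).symm
  obtain ⟨x, w, hw, hxw⟩ : ∃ x w, w ∈ Y ∧ x * w * x⁻¹ ∉ N := by
    by_contra hcon
    push Not at hcon
    refine hC.ne (top_le_iff.mp (hC.gen ▸ (closure_le N).mpr ?_))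
    rintro z hz
    obtain ⟨w, hw, hwz⟩ := Group.mem_conjugatesOfSet_iff.mp hz
    obtain ⟨x, rfl⟩ := isConj_iff.mp hwz
    exact hcon x w hw
  set y1 := φ (x * w * x⁻¹) with hy1
  set K := closure ({y0, y1} : Set Q) with hK
  have hKt : ∀ q, q ∈ K := by
    have : K.comap φ = ⊤ := by
      by_contra hne
      refine hxw (hC.uniq _ (fun z hz => ?_) hne (subset_closure (by simp [hy1])))
      rcases hall _ (mem_map_of_mem φ hz) with e | e
      · show φ z ∈ K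
        rw [e]; exact one_mem K
      · show φ z ∈ K
        rw [e]; exact subset_closure (by simp)
    intro q
    obtain ⟨z, rfl⟩ := hsurj q
    have hz : z ∈ K.comap φ := this ▸ mem_top z
    exact hz
  have hy0i : y0⁻¹ = y0 := inv_eq_of_mul_eq_one_right (by rw [← sq]; exact hsq y0 hy0m)
  have hy1sq : y1 * y1 = 1 := by
    rw [← sq, hy1, map_mul, map_mul, map_inv, conj_pow, hsq _ (mem_map_of_mem φ hw)]
    group
  have hy1i : y1⁻¹ = y1 := inv_eq_of_mul_eq_one_right hy1sq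
  set d := y0 * y1 with hd
  have hconj : ∀ k : ℤ, y0 * d ^ k * y0 = d ^ (-k) := by
    intro k
    have e : y0 * d * y0⁻¹ = d⁻¹ := by
      rw [hd, mul_inv_rev, hy0i, hy1i, show y0 * (y0 * y1) * y0 = (y0 * y0) * (y1 * y0) by group,
        ← sq, hsq y0 hy0m, one_mul]
    calc y0 * d ^ k * y0 = y0 * d ^ k * y0⁻¹ := by rw [hy0i]
      _ = (y0 * d * y0⁻¹) ^ k := (conj_zpow).symm
      _ = d ^ (-k) := by rw [e, inv_zpow, zpow_neg]
  have hflip : ∀ k : ℤ, y0 * d ^ k = d ^ (-k) * y0 := fun k => by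
    rw [← hconj k, mul_assoc _ y0 y0, ← sq, hsq y0 hy0m, mul_one]
  have hy1d : y1 = y0 * d := by rw [hd, ← mul_assoc, ← sq, hsq y0 hy0m, one_mul]
  have hform : ∀ q, ∃ k : ℤ, q = d ^ k ∨ q = d ^ k * y0 := by
    intro q
    have h0 : ∀ q' : Q, (∃ k : ℤ, q' = d ^ k ∨ q' = d ^ k * y0) → ∃ k : ℤ, y0 * q' = d ^ k ∨ y0 * q' = d ^ k * y0 := by
      rintro _ ⟨k, rfl | rfl⟩
      · exact ⟨-k, Or.inr (hflip k)⟩
      · exact ⟨-k, Or.inl (by rw [← mul_assoc, hconj])⟩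
    have h1 : ∀ q' : Q, (∃ k : ℤ, q' = d ^ k ∨ q' = d ^ k * y0) → ∃ k : ℤ, y1 * q' = d ^ k ∨ y1 * q' = d ^ k * y0 := by
      rintro _ ⟨k, rfl | rfl⟩
      · exact ⟨-(1 + k), Or.inr (by rw [hy1d, mul_assoc y0, ← zpow_one_add, hflip])⟩
      · exact ⟨-(1 + k), Or.inl (by rw [hy1d, ← mul_assoc, mul_assoc y0, ← zpow_one_add, hconj])⟩
    refine closure_induction_left (p := fun q _ => ∃ k : ℤ, q = d ^ k ∨ q = d ^ k * y0) ⟨0, Or.inl (zpow_zero d).symm⟩
      ?_ ?_ (hKt q)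
    · rintro a (rfl | rfl) z _ hz
      exacts [h0 z hz, h1 z hz]
    · rintro a (rfl | rfl) z _ hz
      · rw [hy0i]; exact h0 z hz
      · rw [hy1i]; exact h1 z hz
  obtain ⟨k, hk | hk⟩ := hform (φ h)
  · refine good_factor hC hsurj hker (a := y0) (b := y0 * d ^ k)
      (by rw [hk, ← mul_assoc, ← sq, hsq y0 hy0m, one_mul]) ⟨1, by simpa using hy0m⟩ ?_
      (by simpa using hnp 1)
    rcases Int.even_or_odd k with ⟨j, hj⟩ | ⟨j, hj⟩
    · refine ⟨d ^ (-j), ?_⟩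
      rw [hj, zpow_add, zpow_neg, inv_inv, ← mul_assoc y0, hflip j]
      rw [show d ^ j * (d ^ (-j) * y0 * d ^ j) * (d ^ j)⁻¹ = y0 by rw [zpow_neg]; group]
      exact hy0m
    · refine ⟨d ^ (-j) * φ x, ?_⟩
      rw [hj, show 2 * j + 1 = j + (1 + j) by ring, zpow_add, zpow_one_add, ← mul_assoc y0, hflip j]
      rw [show (d ^ (-j) * φ x)⁻¹ * (d ^ (-j) * y0 * (d * d ^ j)) * (d ^ (-j) * φ x) =
        (φ x)⁻¹ * (y0 * d) * φ x by rw [zpow_neg]; group, ← hy1d, hy1, map_mul, map_mul, map_inv]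
      rw [show (φ x)⁻¹ * (φ x * φ w * (φ x)⁻¹) * φ x = φ w by group]
      exact mem_map_of_mem φ hw
  · exfalso
    refine hnp 1 ?_
    rw [pow_one, hp2, hk, sq, ← mul_assoc, mul_assoc (d ^ k) y0, hflip k,
      ← mul_assoc, ← zpow_add, add_neg_cancel, zpow_zero, one_mul, ← sq, hsq y0 hy0m]

end CfsgLib.PReduced.FrakL
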